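import Mathlib
import Cfsg.Prelude.Def_Local
import Cfsg.Agent.Wr.Pre
import Cfsg.Agent.Spor.M24

/-!
An involution centralising a copy of the fourth Janko group: the facts about `J₄` that are used, stated for a subgroup
of an ambient group, and the intermediate configurations.
-/

set_option autoImplicit false

namespace Cfsg.Agent.Wj

open Cfsg.Agent.Rec Cfsg.Agent.Inv.Fz Cfsg.Agent.Wr Subgroup

universe u v

variable {G : Type u} [Group G] {G' : Type v} [Group G']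

/-- The subgroup generated by the image of `S`. -/
def im (f : G → G') (S : Subgroup G) : Subgroup G' := closure (f '' (S : Set G))

/-- `f` restricts to an injective homomorphism on `L`. -/
structure PH (L : Subgroup G) (f : G → G') : Prop where
  mul : ∀ a ∈ L, ∀ b ∈ L, f (a * b) = f a * f b
  inj : ∀ a ∈ L, f a = 1 → a = 1

namespace PH

variable {L S : Subgroup G} {f : G → G'} (h : PH L f)
include h

theorem mono (hS : S ≤ L) : PH S f := ⟨fun a ha b hb => h.mul a (hS ha) b (hS hb), fun a ha => h.inj a (hS ha)⟩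

/-- The homomorphism. -/
def hom : L →* G' := MonoidHom.mk' (fun a => f a) fun a b => h.mul a a.2 b b.2

theorem one : f 1 = 1 := map_one h.hom

theorem inv {a : G} (ha : a ∈ L) : f a⁻¹ = (f a)⁻¹ := map_inv h.hom ⟨a, ha⟩

theorem conj {a b : G} (ha : a ∈ L) (hb : b ∈ L) : f (a * b * a⁻¹) = f a * f b * (f a)⁻¹ := by
  rw [h.mul _ (mul_mem ha hb) _ (inv_mem ha), h.mul a ha b hb, h.inv ha]

theorem eq_iff {a b : G} (ha : a ∈ L) (hb : b ∈ L) : f a = f b ↔ a = b :=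
  ⟨fun e => mul_inv_eq_one.1 (h.inj _ (mul_mem ha (inv_mem hb)) (by
    rw [h.mul a ha _ (inv_mem hb), h.inv hb, e, mul_inv_cancel])), fun e => e ▸ rfl⟩

theorem eq_one {a : G} (ha : a ∈ L) : f a = 1 ↔ a = 1 := ⟨h.inj a ha, fun e => e ▸ h.one⟩

theorem comm_iff {a b : G} (ha : a ∈ L) (hb : b ∈ L) : f a * f b = f b * f a ↔ a * b = b * a := by
  rw [← h.mul a ha b hb, ← h.mul b hb a ha, h.eq_iff (mul_mem ha hb) (mul_mem hb ha)]

theorem sq_iff {a : G} (ha : a ∈ L) : f a * f a = 1 ↔ a * a = 1 := by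
  rw [← h.mul a ha a ha, h.eq_one (mul_mem ha ha)]

theorem hom_inj : Function.Injective h.hom := (injective_iff_map_eq_one _).2 fun a e => Subtype.ext (h.inj a a.2 e)

theorem im_eq (hS : S ≤ L) : im f S = (S.subgroupOf L).map h.hom := by
  refine le_antisymm ((closure_le _).2 ?_) ?_
  · rintro _ ⟨a, ha, rfl⟩
    exact ⟨⟨a, hS ha⟩, ha, rfl⟩
  · rintro _ ⟨a, ha, rfl⟩
    exact subset_closure ⟨a, ha, rfl⟩

theorem mem_im (hS : S ≤ L) {y : G'} : y ∈ im f S ↔ ∃ a ∈ S, f a = y := by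
  rw [h.im_eq hS]
  exact ⟨fun ⟨a, ha, e⟩ => ⟨a, ha, e⟩, fun ⟨a, ha, e⟩ => ⟨⟨a, hS ha⟩, ha, e⟩⟩

theorem forall_im (hS : S ≤ L) {P : G' → Prop} : (∀ y ∈ im f S, P y) ↔ ∀ a ∈ S, P (f a) :=
  ⟨fun k a ha => k _ ((h.mem_im hS).2 ⟨a, ha, rfl⟩), fun k y hy => by
    obtain ⟨a, ha, rfl⟩ := (h.mem_im hS).1 hy
    exact k a ha⟩

theorem apply_mem (hS : S ≤ L) {a : G} (ha : a ∈ L) : f a ∈ im f S ↔ a ∈ S :=
  ⟨fun k => by
    obtain ⟨b, hb, e⟩ := (h.mem_im hS).1 k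
    exact (h.eq_iff (hS hb) ha).1 e ▸ hb, fun k => (h.mem_im hS).2 ⟨a, k, rfl⟩⟩

/-- The isomorphism onto the image. -/
noncomputable def equiv (hS : S ≤ L) : S ≃* im f S :=
  (subgroupOfEquivOfLe hS).symm.trans ((equivMapOfInjective _ _ h.hom_inj).trans
    (MulEquiv.subgroupCongr (h.im_eq hS).symm))

theorem card_im (hS : S ≤ L) : Nat.card (im f S) = Nat.card S := (Nat.card_congr (h.equiv hS).toEquiv).symm

/-- The preimage of a subgroup. -/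
def pre (D : Subgroup G') : Subgroup G := (D.comap h.hom).map L.subtype

theorem mem_pre {D : Subgroup G'} {a : G} : a ∈ h.pre D ↔ a ∈ L ∧ f a ∈ D :=
  ⟨fun ⟨x, k, e⟩ => e ▸ ⟨x.2, k⟩, fun ⟨k, k'⟩ => ⟨⟨a, k⟩, k', rfl⟩⟩

theorem pre_le (D : Subgroup G') : h.pre D ≤ L := fun _ k => (h.mem_pre.1 k).1

theorem im_pre {D : Subgroup G'} (hD : D ≤ im f L) : im f (h.pre D) = D := by
  ext y
  rw [h.mem_im (h.pre_le D)]
  refine ⟨fun ⟨a, ha, e⟩ => e ▸ (h.mem_pre.1 ha).2, fun k => ?_⟩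
  obtain ⟨a, ha, rfl⟩ := (h.mem_im le_rfl).1 (hD k)
  exact ⟨a, h.mem_pre.2 ⟨ha, k⟩, rfl⟩

end PH

theorem im_mono (f : G → G') {S S' : Subgroup G} (h : S ≤ S') : im f S ≤ im f S' := closure_mono (Set.image_mono h)

/-- A Sylow 2-subgroup `T` of `J₄` with its elementary abelian subgroup `V` of order `2 ^ 11`, the central involution
`z`, a duad `d` and an involution `x` with `z, d ∈ [V, x]`. -/
structure Sd (T V : Subgroup G) (z d x : G) : Prop where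
  cT : Nat.card T = 2 ^ 21
  cV : Nat.card V = 2 ^ 11
  VT : V ≤ T
  nV : ∀ a ∈ T, ∀ v ∈ V, a * v * a⁻¹ ∈ V
  sq : ∀ v ∈ V, v * v = 1
  uniq : ∀ F ≤ T, (∀ a ∈ F, a * a = 1) → 2 ^ 11 ≤ Nat.card F → F = V
  a128 : ∀ a ∈ T, a ∉ V → Nat.card ↥(V ⊓ centralizer {a}) ≤ 128
  z1 : z ≠ 1
  d1 : d ≠ 1
  zc : ∀ a ∈ T, a * z = z * a
  cz : ∀ a ∈ T, (∀ b ∈ T, a * b = b * a) → a = 1 ∨ a = z
  xT : x ∈ T
  xV : x ∉ V
  xx : x * x = 1
  x128 : 128 ≤ Nat.card ↥(V ⊓ centralizer {x})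
  zx : ∃ v ∈ V, x * v * x * v = z
  dx : ∃ v ∈ V, x * v * x * v = d
  gen : T ≤ closure {a | a ∈ T ∧ a * a = 1}

theorem comm_of_sq {F : Subgroup G} (h : ∀ a ∈ F, a * a = 1) {a b : G} (ha : a ∈ F) (hb : b ∈ F) : a * b = b * a := by
  rw [← inv_eq_of_mul_eq_one_right (h _ (mul_mem ha hb)), mul_inv_rev, inv_eq_of_mul_eq_one_right (h a ha),
    inv_eq_of_mul_eq_one_right (h b hb)]

theorem pg_of_sq {F : Subgroup G} (h : ∀ a ∈ F, a * a = 1) : IsPGroup 2 F :=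
  fun a => ⟨1, Subtype.ext (by simpa [pow_two] using h a a.2)⟩

/-- An involution acting on an elementary abelian group. -/
theorem card_le_sq [Finite G] {W : Subgroup G} (h : ∀ a ∈ W, a * a = 1) {u : G} (hu : u * u = 1)
    (hn : ∀ a ∈ W, u * a * u⁻¹ ∈ W) : Nat.card W ≤ Nat.card ↥(W ⊓ centralizer {u}) ^ 2 := by
  let φ : W →* G := MonoidHom.mk' (fun a => u * a * u⁻¹ * a) fun a b => by
    have h1 := comm_of_sq h a.2 (hn b b.2)
    calc _ = u * a * u⁻¹ * (u * b * u⁻¹ * a) * b := by simp [mul_assoc]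
      _ = _ := by rw [← h1]; simp [mul_assoc]
  have h1 : φ.range ≤ W ⊓ centralizer {u} := by
    rintro _ ⟨a, rfl⟩
    refine ⟨mul_mem (hn a a.2) a.2, mem_cen.2 ?_⟩
    change u * a * u⁻¹ * a * u = u * (u * a * u⁻¹ * a)
    rw [← comm_of_sq h a.2 (hn a a.2), inv_eq_of_mul_eq_one_right hu]
    calc _ = a * u * a * (u * u) := by group
      _ = u * u * (a * u * a) := by rw [hu, mul_one, one_mul]
      _ = u * (u * a * u⁻¹ * (u * u) * a) := by group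
      _ = _ := by rw [hu, mul_one, ← comm_of_sq h a.2 (hn a a.2), inv_eq_of_mul_eq_one_right hu]
  have h2 : φ.ker.map W.subtype ≤ W ⊓ centralizer {u} := by
    rintro _ ⟨a, ha, rfl⟩
    exact ⟨a.2, mem_cen.2 (mul_inv_eq_iff_eq_mul.1 (mul_right_cancel (ha.trans (h a a.2).symm))).symm⟩
  have h3 := card_le_of_le h2
  rw [card_subtype] at h3
  rw [card_eq_card_quotient_mul_card_subgroup φ.ker, Nat.card_congr (QuotientGroup.quotientKerEquivRange φ).toEquiv, sq]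
  exact Nat.mul_le_mul (card_le_of_le h1) h3

theorem card_dbl [Finite G] {t : G} {V D : Subgroup G} (h : Dbl t V D) : Nat.card D = Nat.card V ^ 2 := by
  let φ : D →* G := MonoidHom.mk' (fun a => ph t a) fun a b => h.mul a.2 b.2
  have h1 : φ.range = V := le_antisymm (by rintro _ ⟨a, rfl⟩; exact h.mem a a.2) fun v hv =>
    (h.onto v hv).elim fun a k => ⟨⟨a, k.1⟩, k.2⟩
  have h2 : φ.ker = V.subgroupOf D := Subgroup.ext fun a => ⟨h.ker a.2, h.ph_V⟩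
  rw [card_eq_card_quotient_mul_card_subgroup φ.ker, Nat.card_congr (QuotientGroup.quotientKerEquivRange φ).toEquiv, sq,
    h1, h2, Nat.card_congr (subgroupOfEquivOfLe h.le).toEquiv]

namespace Sd

variable {T V : Subgroup G} {z d x : G} (s : Sd T V z d x)
include s

theorem pT : IsPGroup 2 T := IsPGroup.of_card s.cT

theorem comm {a b : G} (ha : a ∈ V) (hb : b ∈ V) : a * b = b * a := comm_of_sq s.sq ha hb

theorem inv {a : G} (ha : a ∈ V) : a⁻¹ = a := inv_eq_of_mul_eq_one_right (s.sq a ha)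

theorem xi : x⁻¹ = x := inv_eq_of_mul_eq_one_right s.xx

theorem com_mem {v : G} (hv : v ∈ V) : x * v * x * v ∈ V := mul_mem (by simpa only [s.xi] using s.nV x s.xT v hv) hv

theorem com_comm {v : G} (hv : v ∈ V) : x * (x * v * x * v) = x * v * x * v * x := by
  have h1 : x * v * x ∈ V := by simpa only [s.xi] using s.nV x s.xT v hv
  calc _ = x * x * (v * x * v) := by group
    _ = v * (x * v) * (x * x) := by rw [s.xx]; group
    _ = _ := by rw [← s.comm hv h1]; group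

theorem zV : z ∈ V := s.zx.elim fun _ k => k.2 ▸ s.com_mem k.1

theorem dV : d ∈ V := s.dx.elim fun _ k => k.2 ▸ s.com_mem k.1

theorem xd : x * d = d * x := s.dx.elim fun _ k => k.2 ▸ s.com_comm k.1

theorem zz : z * z = 1 := s.sq z s.zV

theorem dd : d * d = 1 := s.sq d s.dV

/-- `V` is self-centralising in `T`. -/
theorem cen {a : G} (ha : a ∈ T) (h : ∀ v ∈ V, a * v = v * a) : a ∈ V := by
  by_contra k
  have h1 := s.a128 a ha k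
  rw [inf_eq_left.2 fun v hv => mem_cen.2 (h v hv).symm, s.cV] at h1
  omega

theorem card_le {F : Subgroup G} (hF : F ≤ T) (h : ∀ a ∈ F, a * a = 1) : Nat.card F ≤ 2 ^ 11 := by
  by_contra k
  rw [s.uniq F hF h (by omega), s.cV] at k
  omega

end Sd

/-- The facts about `L = J₄`: `N_L(V) = V M` with `M = M₂₄`, and `Q = O₂(C_L(z))`. -/
structure JF (L T V Q M : Subgroup G) (z d x : G) : Prop extends Sd T V z d x where
  simple : IsSimpleGroup L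
  syl : IsSylIn 2 T L
  ML : M ≤ L
  eM : Nonempty (M ≃* Cfsg.M24)
  nM : ∀ m ∈ M, ∀ v ∈ V, m * v * m⁻¹ ∈ V
  MV : ∀ m ∈ M, m ∈ V → m = 1
  dec : ∀ g ∈ L, (∀ v ∈ V, g * v * g⁻¹ ∈ V) → ∃ v ∈ V, ∃ m ∈ M, g = v * m
  cenV : ∀ g ∈ L, (∀ v ∈ V, g * v = v * g) → g ∈ V
  cls : ∀ a ∈ L, a * a = 1 → a ≠ 1 → ∃ g ∈ L, g * a * g⁻¹ = z ∨ g * a * g⁻¹ = d
  cd : ∀ g ∈ L, g * d = d * g → ∀ v ∈ V, g * v * g⁻¹ ∈ V
  top : ∀ S : Subgroup G, M ≤ S → (∀ g ∈ L, g * z = z * g → g ∈ S) → L ≤ S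
  orb : ∀ v ∈ V, v ≠ 1 → ∃ m ∈ M, m * v * m⁻¹ = z ∨ m * v * m⁻¹ = d
  irr : ∀ S ≤ V, (∀ m ∈ M, ∀ s ∈ S, m * s * m⁻¹ ∈ S) → S = ⊥ ∨ S = V
  sqz : ∀ w ∈ V, (∀ m ∈ M, m * z = z * m → m * w * m⁻¹ = w ∨ m * w * m⁻¹ = w * z) → w = 1 ∨ w = z
  sqd : ∀ w ∈ V, (∀ m ∈ M, m * d = d * m → m * w * m⁻¹ = w ∨ m * w * m⁻¹ = w * d) → w = 1 ∨ w = d
  subd : ∀ S ≤ V, (∀ m ∈ M, m * d = d * m → ∀ s ∈ S, m * s * m⁻¹ ∈ S) → S = ⊥ ∨ d ∈ S
  comd : ∀ S : Subgroup G, (∀ m ∈ M, m * d = d * m → ∀ w ∈ V, m * w * m⁻¹ * w ∈ S) → V ≤ S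
  duad : {v | ∃ m ∈ M, m * d * m⁻¹ = v}.ncard = 276
  whit : ∀ f : G → G, PH V f → (∀ v ∈ V, f v ∈ V) → (∀ m ∈ M, ∃ m' ∈ M, f (m * d * m⁻¹) = m' * d * m'⁻¹) →
    ∃ m ∈ M, ∀ v ∈ V, f v = m * v * m⁻¹
  four : ∃ a ∈ M, ∃ b ∈ M, a * a = 1 ∧ b * b = 1 ∧ a * b = b * a ∧ ∃ v ∈ V, ∃ w ∈ V,
    a * w * a * w = b * v * b * v ∧ a * v * a * v * (a * w * a * w) = b * w * b * w ∧ ∀ p ∈ V, ∀ q ∈ V,
      a * p * a * p * (b * p * b * p) * (b * q * b * q) = b * w * b * w →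
      b * p * b * p * (a * q * a * q) ≠ b * v * b * v * (b * w * b * w)
  f23 : ∃ f ∈ M, ∃ k ∈ M, orderOf f = 23 ∧ k * f * k⁻¹ = f * f ∧ ∀ v ∈ V, f * v = v * f → v = 1
  QT : Q ≤ T
  zQ : z ∈ Q
  dQ : d ∈ Q
  nQ : ∀ h ∈ L, h * z = z * h → ∀ q ∈ Q, h * q * h⁻¹ ∈ Q
  cQ : ∀ h ∈ L, (∀ q ∈ Q, h * q = q * h) → h = 1 ∨ h = z
  comQ : ∀ q ∈ Q, ∀ r ∈ Q, q * r * q⁻¹ = r ∨ q * r * q⁻¹ = r * z
  sqQ : ∀ q ∈ Q, q * q = 1 ∨ q * q = z
  p3 : ∃ p ∈ L, p * z = z * p ∧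
    (∀ h ∈ L, h * z = z * h → ∀ v ∈ V, h * p * h⁻¹ * v * (h * p * h⁻¹)⁻¹ ∈ V) ∧
    ∀ q ∈ Q, q * (p * q * p⁻¹) * (p⁻¹ * q * p) = 1 ∨ q * (p * q * p⁻¹) * (p⁻¹ * q * p) = z
  gH : ∀ S : Subgroup G, (∀ g ∈ L, g * z = z * g → (∀ v ∈ V, g * v * g⁻¹ ∈ V) → g ∈ S) →
    (∀ h ∈ L, h * z = z * h → ∀ s ∈ S, s ∈ L → s * z = z * s → h * s * h⁻¹ ∈ S) → ∀ h ∈ L, h * z = z * h → h ∈ S
  inQ : ∀ a ∈ T, a * a = 1 → ∃ m ∈ M, m * a * m⁻¹ ∈ Q
  cjQ : ∀ q ∈ Q, q * q = 1 → ∃ h ∈ L, h * z = z * h ∧ h * q * h⁻¹ ∈ V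

namespace JF

variable {L T V Q M : Subgroup G} {z d x : G} (j : JF L T V Q M z d x)
include j

theorem TL : T ≤ L := j.syl.le

theorem VL : V ≤ L := j.VT.trans j.TL

theorem QL : Q ≤ L := j.QT.trans j.TL

theorem simpleM : IsSimpleGroup M := by
  have := Spor.Golay.simple_M24
  exact j.eM.some.isSimpleGroup

theorem cM : Nat.card M = 244823040 := (Nat.card_congr j.eM.some.toEquiv).trans Spor.Golay.card_M24

end JF

/-- `C(t) = L × ⟨t⟩ × O` with `O` of odd order. -/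
structure Am (L O : Subgroup G) (t : G) : Prop where
  tt : t * t = 1
  tL : t ∉ L
  tc : ∀ l ∈ L, l * t = t * l
  odd : Odd (Nat.card O)
  ct : ∀ o ∈ O, o * t = t * o
  cL : ∀ o ∈ O, ∀ l ∈ L, o * l = l * o
  disj : ∀ o ∈ O, o ∈ L → o = 1
  dec : ∀ g, g * t = t * g → ∃ o ∈ O, g * o ∈ L ∨ g * o * t ∈ L

/-- `C(t) = L × ⟨t⟩`. -/
structure Cen (L : Subgroup G) (t : G) : Prop where
  tt : t * t = 1
  tL : t ∉ L
  tc : ∀ l ∈ L, l * t = t * l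
  dec : ∀ g, g * t = t * g → g ∈ L ∨ g * t ∈ L

theorem Cen.am {L : Subgroup G} {t : G} (c : Cen L t) : Am L ⊥ t :=
  ⟨c.tt, c.tL, c.tc, by simp, by simp, by simp, by simp, fun g hg => ⟨1, one_mem _, by simpa using c.dec g hg⟩⟩

theorem Cen.pre {L T V Q M : Subgroup G} {z d x t : G} (c : Cen L t) (j : JF L T V Q M z d x) : Pre t V :=
  ⟨c.tt, fun w hw => c.tc w (j.VL hw), fun _ ha _ hb => j.comm ha hb, j.sq, fun e => c.tL (j.VL e), fun g h1 h2 =>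
    (c.dec g h1).imp (fun k => j.cenV g k h2) fun k => j.cenV _ k fun v hv =>
      Commute.mul_left (h2 v hv) (c.tc v (j.VL hv)).symm⟩

/-- The canonical double `W = 2 ^ 22` of `V`. -/
structure DW (t : G) (V W : Subgroup G) : Prop extends Dbl t V W where
  nW : ∀ n, n * t = t * n → (∀ v ∈ V, n * v * n⁻¹ ∈ V) → ∀ w ∈ W, n * w * n⁻¹ ∈ W

/-- `K` commutes with `t K t`, and the diagonal covers the normaliser of `V` in `L`. -/
structure KD (L V K : Subgroup G) (t : G) : Prop where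
  cm : ∀ k ∈ K, ∀ k' ∈ K, k * (t * k' * t) = t * k' * t * k
  on : ∀ l ∈ L, (∀ v ∈ V, l * v * l⁻¹ ∈ V) → ∃ k ∈ K, k * (t * k * t) = l
  ker : ∀ k ∈ K, k * (t * k * t) = 1 → ∀ n, k ^ 2 ^ n = 1 → k = 1

/-- `e` is the representative of the class of `a`. -/
def Rp (z d a e : G) : Prop := (a = 1 ∧ e = 1) ∨ (a ≠ 1 ∧ (e = z ∨ e = d))

/-- The wreath configuration `θ(T) × t θ(T) t` with the fusion of its involutions. -/
structure Wg (T X : Subgroup G) (t z d : G) (θ : G → G) : Prop where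
  mul : ∀ a ∈ T, ∀ b ∈ T, θ (a * b) = θ a * θ b
  diag : ∀ a ∈ T, θ a * (t * θ a * t) = a
  comm : ∀ a ∈ T, ∀ b ∈ T, θ a * (t * θ b * t) = t * θ b * t * θ a
  mem : ∀ a ∈ T, θ a ∈ X
  move : ∀ a ∈ T, ∀ b ∈ T, a * a = 1 → b * b = 1 → ∃ k ∈ X, ∃ e e', Rp z d a e ∧ Rp z d b e' ∧
    k * (θ a * (t * θ b * t)) * k⁻¹ = θ e * (t * θ e' * t)

/-- A Sylow 2-subgroup `A × B` of `X` with both factors of type `J₄`. -/
structure Fs (X A B U U' : Subgroup G) (z d x z' d' x' : G) : Prop where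
  sA : Sd A U z d x
  sB : Sd B U' z' d' x'
  comm : ∀ a ∈ A, ∀ b ∈ B, a * b = b * a
  disj : ∀ a ∈ A, a ∈ B → a = 1
  syl : IsSylIn 2 (A ⊔ B) X
  move : ∀ a ∈ A, ∀ b ∈ B, a * a = 1 → b * b = 1 → ∃ k ∈ X, ∃ e e', Rp z d a e ∧ Rp z' d' b e' ∧
    k * (a * b) * k⁻¹ = e * e'

end Cfsg.Agent.Wj
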