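import Mathlib
import Cfsg.Agent.Wj.Defs

/-!
Consequences of the facts about `J₄`: centralisers of involutions.
-/

set_option autoImplicit false

namespace Cfsg.Agent.Wj

open Cfsg.Agent.Rec Cfsg.Agent.Inv.Fz Cfsg.Agent.Wr Subgroup

universe u v

namespace GenAux

variable {G : Type u} [Group G]

theorem cm_cj {g a p : G} (h : p * (g * a * g⁻¹) = g * a * g⁻¹ * p) : g⁻¹ * p * g * a = a * (g⁻¹ * p * g) := by
  calc _ = g⁻¹ * (p * (g * a * g⁻¹)) * g := by group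
    _ = _ := by rw [h]; group

theorem cj_cm {g a p : G} (h : p * a = a * p) : g * p * g⁻¹ * (g * a * g⁻¹) = g * a * g⁻¹ * (g * p * g⁻¹) := by
  calc _ = g * (p * a) * g⁻¹ := by group
    _ = _ := by rw [h]; group

theorem cjm {L : Subgroup G} {g a : G} (hg : g ∈ L) (ha : a ∈ L) : g * a * g⁻¹ ∈ L :=
  mul_mem (mul_mem hg ha) (inv_mem hg)

theorem cjm' {L : Subgroup G} {g a : G} (hg : g ∈ L) (ha : a ∈ L) : g⁻¹ * a * g ∈ L :=
  mul_mem (mul_mem (inv_mem hg) ha) hg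

end GenAux

open GenAux

variable {G : Type u} [Group G] [Finite G] {L T V Q M : Subgroup G} {z d x : G} (j : JF L T V Q M z d x)
include j

namespace JF

omit [Finite G] in
theorem inf_cen' : ∀ a ∈ L, (∀ b ∈ L, a * b = b * a) → a = 1 := fun a ha h => by
  have := j.simple
  rcases (inferInstance : (center L).Normal).eq_bot_or_eq_top with e | e
  · exact congrArg Subtype.val (mem_bot.1 (e.le (show (⟨a, ha⟩ : L) ∈ center L from
      mem_center_iff.2 fun b => Subtype.ext (h b b.2).symm)))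
  · refine absurd ?_ j.xV
    rcases j.cz x j.xT fun b hb => (congrArg Subtype.val
      (mem_center_iff.1 (e.ge (mem_top (⟨x, j.TL j.xT⟩ : L))) ⟨b, j.TL hb⟩)).symm with e | e <;> rw [e]
    exacts [one_mem _, j.zV]

theorem inf_cen : ∀ a ∈ L, (∀ b ∈ L, a * b = b * a) → a = 1 := j.inf_cen'

omit [Finite G] in
theorem nrm_z {N : Subgroup G} (hN : N ≤ L ⊓ centralizer {z})
    (hn : ∀ g ∈ L, g * z = z * g → ∀ n ∈ N, g * n * g⁻¹ ∈ N) (h1 : N ≠ ⊥) : z ∈ N := by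
  have hc : ∀ n ∈ N, ∀ q ∈ Q, q * n * q⁻¹ * n⁻¹ ∈ N := fun n h q hq =>
    mul_mem (hn q (j.QL hq) (j.zc q (j.QT hq)) n h) (inv_mem h)
  have h2 : ∀ n ∈ N, n ≠ 1 → z ∈ N ∨ ∃ q ∈ Q, q * n * q⁻¹ * n⁻¹ ≠ 1 := fun n h n1 => by
    by_contra h3
    push Not at h3
    exact h3.1 ((j.cQ n (hN h).1 fun q hq =>
      (mul_inv_eq_iff_eq_mul.1 (mul_inv_eq_one.1 (h3.2 q hq))).symm).resolve_left n1 ▸ h)
  obtain ⟨n, h, n1⟩ := (bot_or_exists_ne_one N).resolve_left h1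
  rcases h2 n h n1 with h3 | ⟨q, hq, h3⟩
  · exact h3
  have h4 : q * n * q⁻¹ * n⁻¹ ∈ Q := by
    simpa only [mul_assoc] using mul_mem hq (j.nQ n (hN h).1 (mem_cen.1 (hN h).2) _ (inv_mem hq))
  rcases h2 _ (hc n h q hq) h3 with h5 | ⟨q', hq', h5⟩
  · exact h5
  have h6 := hc _ (hc n h q hq) q' hq'
  generalize q * n * q⁻¹ * n⁻¹ = r at *
  rcases j.comQ q' hq' r h4 with e | e
  · exact absurd (by rw [e, mul_inv_cancel]) h5
  · rwa [e, j.zc r (j.QT h4), mul_inv_cancel_right] at h6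

omit [Finite G] in
theorem nrm_d {N : Subgroup G} (hN : N ≤ L ⊓ centralizer {d})
    (hn : ∀ g ∈ L, g * d = d * g → ∀ n ∈ N, g * n * g⁻¹ ∈ N) (h1 : N ≠ ⊥) : d ∈ N := by
  refine ((j.subd (N ⊓ V) inf_le_right fun m hm e s hs => ⟨hn m (j.ML hm) e s hs.1, j.nM m hm s hs.2⟩).resolve_left
    fun e => h1 (eq_bot_iff.2 fun n h => e.le ⟨h, j.cenV n (hN h).1 fun v hv => ?_⟩)).1
  have h2 : n * v * n⁻¹ * v⁻¹ ∈ N ⊓ V := mem_inf.2 ⟨by
    simpa only [mul_assoc] using mul_mem h (hn v (j.VL hv) (j.comm hv j.dV) _ (inv_mem h)),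
    mul_mem (j.cd n (hN h).1 (mem_cen.1 (hN h).2) v hv) (inv_mem hv)⟩
  exact mul_inv_eq_iff_eq_mul.1 (mul_inv_eq_one.1 (mem_bot.1 (e.le h2)))

/-- A nontrivial normal subgroup of `C_L(a)` contains `a`. -/
theorem nrm {a : G} (ha : a ∈ L) (a2 : a * a = 1) (a1 : a ≠ 1) {N : Subgroup G} (hN : N ≤ L ⊓ centralizer {a})
    (hn : ∀ g ∈ L, g * a = a * g → ∀ n ∈ N, g * n * g⁻¹ ∈ N) (h1 : N ≠ ⊥) : a ∈ N := by
  obtain ⟨g, hg, e⟩ := j.cls a ha a2 a1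
  have k1 : cj g N ≤ L ⊓ centralizer {g * a * g⁻¹} := cj_le_iff.2 fun n h =>
    ⟨cjm hg (hN h).1, mem_cen.2 (cj_cm (mem_cen.1 (hN h).2))⟩
  have k2 : ∀ p ∈ L, p * (g * a * g⁻¹) = g * a * g⁻¹ * p → ∀ n ∈ cj g N, p * n * p⁻¹ ∈ cj g N := fun p hp e n h =>
    mem_cj.2 (by simpa [mul_assoc] using hn _ (cjm' hg hp) (cm_cj e) _ (mem_cj.1 h))
  have k3 : cj g N ≠ ⊥ := fun e => h1 (cj_inj.1 (e.trans (cj_bot g).symm))
  rw [← conj_mem_cj (g := g)]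
  rcases e with e | e <;> rw [e] at k1 k2 ⊢
  exacts [j.nrm_z k1 k2 k3, j.nrm_d k1 k2 k3]

/-- The centre of `C_L(a)`. -/
theorem cc {a : G} (ha : a ∈ L) (a2 : a * a = 1) (a1 : a ≠ 1) {c : G} (hc : c ∈ L)
    (h : ∀ g ∈ L, g * a = a * g → g * c = c * g) : c = 1 ∨ c = a := by
  obtain ⟨g, hg, e⟩ := j.cls a ha a2 a1
  have k : ∀ p ∈ L, p * (g * a * g⁻¹) = g * a * g⁻¹ * p → g * c * g⁻¹ * p = p * (g * c * g⁻¹) := fun p hp e => by
    simpa [mul_assoc] using (cj_cm (g := g) (h _ (cjm' hg hp) (cm_cj e))).symm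
  suffices g * c * g⁻¹ = 1 ∨ g * c * g⁻¹ = g * a * g⁻¹ by simpa using this
  rcases e with e | e <;> rw [e] at k ⊢
  · exact j.cQ _ (cjm hg hc) fun q hq => k q (j.QL hq) (j.zc q (j.QT hq))
  · exact j.sqd _ (j.cenV _ (cjm hg hc) fun v hv => k v (j.VL hv) (j.comm hv j.dV)) fun m hm e =>
      .inl (mul_inv_eq_iff_eq_mul.2 (k m (j.ML hm) e).symm)

/-- Every involution is a commutator in its centraliser. -/
theorem com {a : G} (ha : a ∈ L) (a2 : a * a = 1) (a1 : a ≠ 1) :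
    ∃ p ∈ L, ∃ q ∈ L, p * a = a * p ∧ q * a = a * q ∧ p * q * p⁻¹ * q⁻¹ = a := by
  obtain ⟨g, hg, e⟩ := j.cls a ha a2 a1
  obtain ⟨v, hv, h1, h2, h3⟩ : ∃ v ∈ V, x * (g * a * g⁻¹) = g * a * g⁻¹ * x ∧ v * (g * a * g⁻¹) = g * a * g⁻¹ * v ∧
      x * v * x * v = g * a * g⁻¹ := by
    rcases e with e | e <;> rw [e]
    exacts [j.zx.imp fun v k => ⟨k.1, j.zc x j.xT, j.comm k.1 j.zV, k.2⟩,
      j.dx.imp fun v k => ⟨k.1, j.xd, j.comm k.1 j.dV, k.2⟩]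
  refine ⟨_, cjm' hg (j.TL j.xT), _, cjm' hg (j.VL hv), cm_cj h1, cm_cj h2, ?_⟩
  calc _ = g⁻¹ * (x * v * x⁻¹ * v⁻¹) * g := by group
    _ = _ := by rw [j.xi, j.inv hv, h3]; group

omit [Finite G] in
theorem gen2' {D : Subgroup G} (bD : z ∈ D ∨ d ∈ D)
    (h1 : ∀ a ∈ L, a ∈ D → a * a = 1 → a ≠ 1 → ∀ p ∈ L, p * a = a * p → p ∈ normalizer (D : Set G))
    (h2 : ∀ a ∈ L, a ∈ D → a * a = 1 → a ≠ 1 → ∀ p ∈ L, ∀ q ∈ L, p * a = a * p → q * a = a * q →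
      p * q * p⁻¹ * q⁻¹ ∈ D) : L ≤ D := by
  have dD : d ∈ D := bD.elim (fun zD => by
    obtain ⟨v, hv, e⟩ := j.dx
    have := h2 z (j.VL j.zV) zD j.zz j.z1 x (j.TL j.xT) v (j.VL hv) (j.zc x j.xT) (j.comm hv j.zV)
    rwa [j.xi, j.inv hv, e] at this) id
  have VD : V ≤ D := j.comd D fun m hm e w hw => by
    simpa only [j.inv hw] using h2 d (j.VL j.dV) dD j.dd j.d1 m (j.ML hm) w (j.VL hw) e (j.comm hw j.dV)
  have := j.simpleM
  have hM : M ≤ normalizer (D : Set G) := by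
    rcases (normalCore_normal ((normalizer (D : Set G)).subgroupOf M)).eq_bot_or_eq_top with e | e
    · refine absurd (mem_bot.1 (j.comd ⊥ (fun m hm e' w hw => ?_) j.zV)) j.z1
      have h3 : (⟨m, hm⟩ : M) ∈ ((normalizer (D : Set G)).subgroupOf M).normalCore := fun b =>
        h1 _ (cjm (j.ML b.2) (j.VL j.dV)) (VD (j.nM b b.2 d j.dV)) (conj_sq j.dd) (mt conj_eq_one.1 j.d1) _
          (cjm (j.ML b.2) (j.ML hm)) (cj_cm e')
      obtain rfl : m = 1 := congrArg Subtype.val (mem_bot.1 (e.le h3))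
      simpa using j.sq w hw
    · exact subgroupOf_eq_top.1 (eq_top_iff.2 (e.ge.trans (normalCore_le _)))
  have := j.simple
  exact subgroupOf_eq_top.1 ((normal_subgroupOf_of_le_normalizer (j.top _ hM fun g hg e =>
    h1 z (j.VL j.zV) (VD j.zV) j.zz j.z1 g hg e)).eq_bot_or_eq_top.resolve_left fun e => j.z1 (congrArg Subtype.val
      (mem_bot.1 (e.le (show (⟨z, j.VL j.zV⟩ : L) ∈ D.subgroupOf L from VD j.zV)))))

theorem gen2 {D : Subgroup G} {b : G} (hb : b ∈ L) (bD : b ∈ D) (b2 : b * b = 1) (b1 : b ≠ 1)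
    (h1 : ∀ a ∈ L, a ∈ D → a * a = 1 → a ≠ 1 → ∀ p ∈ L, p * a = a * p → p ∈ normalizer (D : Set G))
    (h2 : ∀ a ∈ L, a ∈ D → a * a = 1 → a ≠ 1 → ∀ p ∈ L, ∀ q ∈ L, p * a = a * p → q * a = a * q →
      p * q * p⁻¹ * q⁻¹ ∈ D) : L ≤ D := by
  obtain ⟨g, hg, e⟩ := j.cls b hb b2 b1
  have s : ∀ {a : G}, a * a = 1 → g⁻¹ * a * g * (g⁻¹ * a * g) = 1 := fun h => by simpa using conj_sq (g := g⁻¹) h
  have o : ∀ {a : G}, a ≠ 1 → g⁻¹ * a * g ≠ 1 := fun h => by simpa using mt (conj_eq_one (g := g⁻¹)).1 h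
  have c : ∀ {a p : G}, p * a = a * p → g⁻¹ * p * g * (g⁻¹ * a * g) = g⁻¹ * a * g * (g⁻¹ * p * g) := fun h => by
    simpa using cj_cm (g := g⁻¹) h
  have h3 := j.gen2' (D := cj g D) (e.elim (fun e => .inl (e ▸ conj_mem_cj.2 bD)) fun e => .inr (e ▸ conj_mem_cj.2 bD))
    (fun a ha aD a2 a1 p hp e => by
      rw [← cj_normalizer]
      exact mem_cj.2 (h1 _ (cjm' hg ha) (mem_cj.1 aD) (s a2) (o a1) _ (cjm' hg hp) (c e)))
    fun a ha aD a2 a1 p hp q hq e e' => mem_cj.2 (by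
      simpa [mul_assoc] using h2 _ (cjm' hg ha) (mem_cj.1 aD) (s a2) (o a1) _ (cjm' hg hp) _ (cjm' hg hq) (c e) (c e'))
  exact fun a ha => conj_mem_cj.1 (h3 (cjm hg ha))

/-- A subgroup normalised by `M` that meets `M` contains `V M`. -/
theorem genN {S : Subgroup G} {m : G} (hm : m ∈ M) (m1 : m ≠ 1) (hS : m ∈ S)
    (h : V ⊔ M ≤ normalizer (S : Set G)) : V ⊔ M ≤ S := by
  have := j.simpleM
  refine sup_le (inf_eq_right.1 ((j.irr (S ⊓ V) inf_le_right fun m hm s hs =>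
    ⟨conj_mem_of_mem_norm (h (mem_sup_right hm)) hs.1, j.nM m hm s hs.2⟩).resolve_left fun e =>
      m1 (j.MV m hm (j.cenV m (j.ML hm) fun v hv => ?_)))) (subgroupOf_eq_top.1
        ((normal_subgroupOf_of_le_normalizer (le_sup_right.trans h)).eq_bot_or_eq_top.resolve_left fun e =>
          m1 (congrArg Subtype.val (mem_bot.1 (e.le (show (⟨m, hm⟩ : M) ∈ S.subgroupOf M from hS))))))
  have h2 : m * v * m⁻¹ * v⁻¹ ∈ S ⊓ V := mem_inf.2 ⟨by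
    simpa only [mul_assoc] using mul_mem hS (conj_mem_of_mem_norm (h (mem_sup_left hv)) (inv_mem hS)),
    mul_mem (j.nM m hm v hv) (inv_mem hv)⟩
  exact mul_inv_eq_iff_eq_mul.1 (mul_inv_eq_one.1 (mem_bot.1 (e.le h2)))

theorem mem_N {g : G} : g ∈ V ⊔ M ↔ g ∈ L ∧ ∀ v ∈ V, g * v * g⁻¹ ∈ V :=
  ⟨fun h => ⟨sup_le j.VL j.ML h, fun _ hv => conj_mem_of_mem_norm
    (sup_le le_normalizer (fun m hm => mem_normalizer_of_conj_mem (j.nM m hm)) h) hv⟩, fun h => by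
      obtain ⟨v, hv, m, hm, rfl⟩ := j.dec g h.1 h.2
      exact mul_mem_sup hv hm⟩

end JF

end Cfsg.Agent.Wj
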