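import Mathlib
import Cfsg.Agent.Wj.Gen

/-!
The centraliser `L × ⟨t⟩ × O`: Sylow subgroup and rank.
-/

set_option autoImplicit false

namespace Cfsg.Agent.Wj

open Cfsg.Agent.Rec Cfsg.Agent.Inv.Fz Cfsg.Agent.Wr Subgroup

universe u v

variable {G : Type u} [Group G] [Finite G] {L T V Q M O : Subgroup G} {z d x t : G}

omit [Finite G] in
theorem mem_E (tt : t * t = 1) (tV : ∀ v ∈ V, v * t = t * v) {e : G} : e ∈ zpowers t ⊔ V ↔ e ∈ V ∨ e * t ∈ V := by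
  refine ⟨fun hx => ?_, fun h => h.elim mem_sup_right fun h =>
    (mul_mem_cancel_right (mem_sup_left (mem_zpowers t))).1 (mem_sup_right h)⟩
  obtain ⟨_, ⟨n, rfl⟩, b, hb, rfl⟩ :=
    (mem_sup_iff_of_le_normalizer (zpowers_le.2 (centralizer_le_normalizer _ tV))).1 hx
  have h2 : t ^ (2 : ℤ) = 1 := by rw [zpow_two, tt]
  rcases Int.even_or_odd n with ⟨m, rfl⟩ | ⟨m, rfl⟩
  · left; simpa [← two_mul, zpow_mul, h2] using hb
  · right; simpa [zpow_add, zpow_mul, h2, mul_assoc, tV b hb, ← mul_assoc t t, tt] using hb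

namespace RankAux

omit [Finite G] in
theorem card_ext (tt : t * t = 1) (tV : ∀ v ∈ V, v * t = t * v) (h : t ∉ V) :
    Nat.card ↥(zpowers t ⊔ V) = 2 * Nat.card V := by
  rw [← card_mul_relIndex (le_sup_right : V ≤ zpowers t ⊔ V), mul_comm,
    relIndex_eq_two_iff.2 ⟨t, mem_sup_left (mem_zpowers t), fun b hb => ?_⟩]
  rcases (mem_E tt tV).1 hb with k | k
  · exact .inr ⟨k, fun k' => h ((mul_mem_cancel_left k).1 k')⟩
  · exact .inl ⟨k, fun k' => h ((mul_mem_cancel_left k').1 k)⟩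

omit [Finite G] in
theorem pg_ext (tt : t * t = 1) (tV : ∀ v ∈ V, v * t = t * v) (h : IsPGroup 2 V) : IsPGroup 2 ↥(zpowers t ⊔ V) :=
  (IsPGroup.of_card_dvd_pow (n := 1) (by
    rw [Nat.card_zpowers]
    exact orderOf_dvd_of_pow_eq_one (by rw [pow_one, pow_two, tt]))).to_sup_of_normal_right' h
      (zpowers_le.2 (centralizer_le_normalizer _ tV))

omit [Finite G] in
theorem sq_ext (tt : t * t = 1) (tV : ∀ v ∈ V, v * t = t * v) (h : ∀ v ∈ V, v * v = 1) :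
    ∀ e ∈ zpowers t ⊔ V, e * e = 1 := fun e he => ((mem_E tt tV).1 he).elim (h e) fun k => by
  calc _ = e * (t * t) * e * (t * t) := by simp [tt]
    _ = e * t * (t * (e * t)) * t := by group
    _ = _ := by rw [← tV _ k, ← mul_assoc, h _ k, one_mul, tt]

omit [Finite G] in
theorem le_ext (tt : t * t = 1) {P S : Subgroup G} (hS : ∀ v ∈ S, v * t = t * v) (h : ∀ p ∈ P, p ∈ S ∨ p * t ∈ S) :
    P ≤ zpowers t ⊔ (zpowers t ⊔ P) ⊓ S := fun p hp => (mem_E tt fun v hv => hS v (mem_inf.1 hv).2).2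
  ((h p hp).imp (fun k => ⟨mem_sup_right hp, k⟩) fun k =>
    mem_inf.2 ⟨mul_mem (mem_sup_right hp) (mem_sup_left (mem_zpowers t)), k⟩)

end RankAux

open RankAux

namespace Am

variable (h : Am L O t)
include h

omit [Finite G] in
theorem dec' {g : G} (hg : g * t = t * g) : ∃ a ∈ L, ∃ o ∈ O, g = a * o ∨ g = a * o * t := by
  obtain ⟨o, ho, k | k⟩ := h.dec g hg
  · exact ⟨_, k, _, inv_mem ho, .inl (by group)⟩
  · refine ⟨_, k, _, inv_mem ho, .inr ?_⟩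
    rw [mul_assoc _ o⁻¹, h.ct _ (inv_mem ho), mul_assoc, mul_assoc, ← mul_assoc t, h.tt]; group

theorem norm {g : G} (hg : g * t = t * g) : g ∈ normalizer (O : Set G) := by
  obtain ⟨a, ha, o, ho, e⟩ := h.dec' hg
  have h1 : a * o ∈ normalizer (O : Set G) :=
    mul_mem (centralizer_le_normalizer _ fun p hp => h.cL p hp a ha) (le_normalizer ho)
  rcases e with rfl | rfl
  exacts [h1, mul_mem h1 (centralizer_le_normalizer _ h.ct)]

theorem two {p : G} (hp : p * t = t * p) {n : ℕ} (e : p ^ 2 ^ n = 1) : p ∈ L ∨ p * t ∈ L := by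
  have k : ∀ a ∈ L, ∀ o ∈ O, ∀ n, (a * o) ^ 2 ^ n = 1 → a * o ∈ L := fun a ha o ho n e => by
    rw [Commute.mul_pow (h.cL o ho a ha).symm] at e
    rwa [eq_one_of_odd_of_sq h.odd ho (h.disj _ (pow_mem ho _)
      (eq_inv_of_mul_eq_one_right e ▸ inv_mem (pow_mem ha _))), mul_one]
  obtain ⟨a, ha, o, ho, e' | e'⟩ := h.dec' hp
  · exact .inl (e' ▸ k a ha o ho n (e' ▸ e))
  · have e2 : p * t = a * o := by rw [e', mul_assoc, h.tt, mul_one]
    refine .inr (e2 ▸ k a ha o ho (n + 1) ?_)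
    rw [← e2, Commute.mul_pow hp, pow_succ, pow_mul, e, pow_mul', pow_two t, h.tt]; simp

variable (j : JF L T V Q M z d x)
include j

theorem card_le {P : Subgroup G} (hP : IsPGroup 2 P) (hc : ∀ q ∈ P, q * t = t * q) :
    Nat.card P ≤ 2 * Nat.card T := by
  refine (card_le_of_le (le_ext h.tt h.tc fun p hp => (hP ⟨p, hp⟩).elim fun n e =>
    h.two (hc p hp) (congrArg Subtype.val e))).trans ?_
  rw [card_ext h.tt (fun v hv => h.tc v (mem_inf.1 hv).2) fun k => h.tL (mem_inf.1 k).2]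
  exact Nat.mul_le_mul_left 2 (j.syl.card_le (pg_ext h.tt hc hP).to_inf_left inf_le_right)

theorem syl : IsSylIn 2 (zpowers t ⊔ T) (centralizer {t}) :=
  isSylIn_of_card_le (sup_le (zpowers_le.2 (mem_cen.2 rfl)) fun a ha => mem_cen.2 (h.tc a (j.TL ha)))
    (pg_ext h.tt (fun a ha => h.tc a (j.TL ha)) j.pT) fun P hP k _ => by
      rw [card_ext h.tt (fun a ha => h.tc a (j.TL ha)) fun k => h.tL (j.TL k)]
      exact h.card_le j hP fun q hq => mem_cen.1 (k hq)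

theorem card_E : Nat.card ↥(zpowers t ⊔ V) = 2 ^ 12 := by
  rw [card_ext h.tt (fun a ha => h.tc a (j.VL ha)) fun k => h.tL (j.VL k), j.cV]; rfl

theorem rank {F : Subgroup G} (hF : ∀ a ∈ F, a * a = 1) (hc : ∀ a ∈ F, a * t = t * a) : Nat.card F ≤ 2 ^ 12 ∧
    (2 ^ 12 ≤ Nat.card F → ∃ c, c * t = t * c ∧ cj c F = zpowers t ⊔ V) := by
  obtain ⟨c, h1, h2⟩ := (h.syl j).exists_cj_le (pg_of_sq hF) fun a ha => mem_cen.2 (hc a ha)
  have tT : ∀ a ∈ T, a * t = t * a := fun a ha => h.tc a (j.TL ha)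
  have h3 := le_ext h.tt tT fun p hp => (mem_E h.tt tT).1 (h2 hp)
  have h4 : ∀ a ∈ (zpowers t ⊔ cj c F) ⊓ T, a * a = 1 := fun a ha => sq_ext h.tt
    (fun v hv => mem_cen.1 ((h.syl j).le (h2 hv)))
    (fun v hv => by simpa [mul_assoc] using conj_sq (g := c) (hF _ (mem_cj.1 hv))) a ha.1
  have h5 := card_le_of_le h3
  have h6 := j.card_le inf_le_right h4
  rw [card_cj, card_ext h.tt (fun v hv => tT v (mem_inf.1 hv).2) fun k => h.tL (j.TL (mem_inf.1 k).2)] at h5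
  refine ⟨by omega, fun k => ⟨c, mem_cen.1 h1, ?_⟩⟩
  rw [j.uniq _ inf_le_right h4 (by omega)] at h3
  exact eq_of_le_of_card_ge h3 (by rwa [card_cj, h.card_E j])

theorem not_conj (g : G) : g * t * g⁻¹ ∉ L := fun k => by
  obtain ⟨p, -, q, -, h1, h2, h3⟩ := j.com k (conj_sq h.tt) (mt conj_eq_one.1 fun e => h.tL (e ▸ one_mem _))
  have h4 : g⁻¹ * p * g * (g⁻¹ * q * g) * (g⁻¹ * p * g)⁻¹ * (g⁻¹ * q * g)⁻¹ = t := by
    calc _ = g⁻¹ * (p * q * p⁻¹ * q⁻¹) * g := by group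
      _ = _ := by rw [h3]; group
  have h5 : ∀ p, p * t = t * p → ∃ n ∈ L ⊔ O, ∃ c, p = n * c ∧ (c = 1 ∨ c = t) := fun p hp => by
    obtain ⟨a, ha, o, ho, e | e⟩ := h.dec' hp
    exacts [⟨_, mul_mem_sup ha ho, 1, by rw [e, mul_one], .inl rfl⟩, ⟨_, mul_mem_sup ha ho, t, e, .inr rfl⟩]
  obtain ⟨n, hn, c, e, hc⟩ := h5 _ (GenAux.cm_cj h1)
  obtain ⟨n', hn', c', e', hc'⟩ := h5 _ (GenAux.cm_cj h2)
  have h6 : ∀ n ∈ L ⊔ O, ∀ c, c = 1 ∨ c = t → Commute n c := by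
    rintro n hn c (rfl | rfl)
    exacts [Commute.one_right n, mem_cen.1 ((sup_le (fun a ha => mem_cen.2 (h.tc a ha))
      fun a ha => mem_cen.2 (h.ct a ha) : L ⊔ O ≤ centralizer {c}) hn)]
  have h7 : Commute c c' := by rcases hc with rfl | rfl <;> rcases hc' with rfl | rfl <;> simp
  have h8 : n * n' * n⁻¹ * n'⁻¹ = t := by
    rw [← h4, e, e']
    calc _ = n * (n' * n⁻¹) * n'⁻¹ := by group
      _ = n * (c * (n' * c') * c⁻¹ * n⁻¹ * c'⁻¹) * n'⁻¹ := by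
        rw [← ((h6 n' hn' c hc).mul_left h7.symm).eq, mul_inv_cancel_right, mul_assoc n',
          ← (h6 _ (inv_mem hn) c' hc').eq]; group
      _ = _ := by group
  obtain ⟨l, hl, o, ho, h9⟩ := (mem_sup_iff_of_le_normalizer fun a ha => centralizer_le_normalizer _
    fun p hp => h.cL p hp a ha).1 (h8 ▸ mul_mem (mul_mem (mul_mem hn hn') (inv_mem hn)) (inv_mem hn'))
  have h10 : o ^ 2 ^ 1 = (l * l)⁻¹ := by
    refine eq_inv_of_mul_eq_one_right ?_
    calc _ = l * (l * o) * o := by rw [pow_one, pow_two]; group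
      _ = _ := by rw [← h.cL o ho l hl, ← h.tt, h9]; group
  rw [eq_one_of_odd_of_sq h.odd ho (h.disj _ (pow_mem ho _) (h10 ▸ inv_mem (mul_mem hl hl))), mul_one] at h9
  exact h.tL (h9 ▸ hl)

theorem exists_norm {g : G} (hg : g * t * g⁻¹ ∈ zpowers t ⊔ V) :
    ∃ y ∈ normalizer ((zpowers t ⊔ V : Subgroup G) : Set G), y * t * y⁻¹ = g * t * g⁻¹ := by
  have h1 := sq_ext h.tt (fun a ha => h.tc a (j.VL ha)) j.sq
  obtain ⟨c, h2, h3⟩ := (h.rank j (F := cj g⁻¹ (zpowers t ⊔ V))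
    (fun v hv => by simpa [mul_assoc] using conj_sq (g := g⁻¹) (h1 _ (mem_cj.1 hv))) fun a ha => by
      simpa [mul_assoc] using GenAux.cm_cj (comm_of_sq h1 (mem_cj.1 ha) hg)).2 (by rw [card_cj, h.card_E j])
  rw [cj_cj, cj_eq_iff] at h3
  refine ⟨_, inv_mem h3, ?_⟩
  calc _ = g * (c⁻¹ * (t * c)) * g⁻¹ := by group
    _ = _ := by rw [← h2]; group

theorem norm_O {y : G} (hy : y ∈ normalizer ((zpowers t ⊔ V : Subgroup G) : Set G)) :
    y ∈ normalizer (O : Set G) := by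
  refine mem_normalizer_of_conj_mem fun o ho => ?_
  have h2 : zpowers t ⊔ V ≤ centralizer {y * o * y⁻¹} := by
    rw [← cj_eq_iff.2 hy, ← cj_centralizer_singleton]
    exact cj_mono (sup_le (zpowers_le.2 (mem_cen.2 (h.ct o ho).symm)) fun a ha =>
      mem_cen.2 (h.cL o ho a (j.VL ha)).symm)
  have h3 : ∀ a ∈ V, Commute (y * o * y⁻¹) a := fun a ha => (mem_cen.1 (h2 (mem_sup_right ha))).symm
  obtain ⟨o₁, h4, h5⟩ := h.dec _ (mem_cen.1 (h2 (mem_sup_left (mem_zpowers t)))).symm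
  have h6 : ∀ a ∈ V, Commute (y * o * y⁻¹ * o₁) a := fun a ha => (h3 a ha).mul_left (h.cL _ h4 a (j.VL ha))
  have h7 : y * o * y⁻¹ * o₁ ∈ zpowers t ⊔ V := (mem_E h.tt fun a ha => h.tc a (j.VL ha)).2
    (h5.imp (fun k => j.cenV _ k h6) fun k => j.cenV _ k fun a ha => (h6 a ha).mul_left (h.tc a (j.VL ha)).symm)
  have g2 := sq_ext h.tt (fun a ha => h.tc a (j.VL ha)) j.sq _ h7
  have g3 : Commute (y * o * y⁻¹ * o₁) o₁ := mem_cen.1 (sup_le (zpowers_le.2 (mem_cen.2 (h.ct o₁ h4).symm))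
    (fun a ha => mem_cen.2 (h.cL o₁ h4 a (j.VL ha)).symm) h7)
  generalize e : y * o * y⁻¹ * o₁ = g at g2 g3
  have e1 : (y * o * y⁻¹) ^ Nat.card O = (g * o₁⁻¹) ^ Nat.card O := by rw [← e, mul_inv_cancel_right]
  have e2 : ∀ a ∈ O, a ^ Nat.card O = 1 := fun a ha => congrArg Subtype.val (pow_card_eq_one' (x := (⟨a, ha⟩ : O)))
  obtain ⟨n, hn⟩ := h.odd
  rw [conj_pow, e2 o ho, g3.inv_right.mul_pow, e2 _ (inv_mem h4), hn, pow_succ, pow_mul, pow_two, g2] at e1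
  rw [eq_mul_inv_of_mul_eq e, show g = 1 by simpa using e1.symm, one_mul]
  exact inv_mem h4

end Am

end Cfsg.Agent.Wj
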