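import Mathlib
import Cfsg.Agent.Wj.Rank

/-!
The involution `t` is conjugate to `t b` in the normaliser of the double.
-/

set_option autoImplicit false

namespace Cfsg.Agent.Wj

open Cfsg.Agent.Rec Cfsg.Agent.Inv.Fz Cfsg.Agent.Wr Subgroup

universe u v

variable {G : Type u} [Group G] [Finite G] {L T V Q M W : Subgroup G} {z d x t b : G}

theorem Cen.rank_conj (c : Cen L t) (j : JF L T V Q M z d x) {g : G} {F : Subgroup G} (h1 : ∀ a ∈ F, a * a = 1)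
    (h2 : ∀ a ∈ F, a * (g * t * g⁻¹) = g * t * g⁻¹ * a) : Nat.card F ≤ 2 ^ 12 ∧
      (2 ^ 12 ≤ Nat.card F → ∃ y, y * (g * t * g⁻¹) * y⁻¹ = t ∧ cj y F = zpowers t ⊔ V) := by
  have h := c.am.rank j (F := cj g⁻¹ F) (fun a ha => by simpa [conj_mul, conj_eq_one_iff] using h1 _ (mem_cj.1 ha))
    fun a ha => by simpa [mul_assoc] using congrArg (· * g) (h2 _ (mem_cj.1 ha))
  rw [card_cj] at h
  exact ⟨h.1, fun k => (h.2 k).elim fun y e => ⟨y * g⁻¹, by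
    rw [show y * g⁻¹ * (g * t * g⁻¹) * (y * g⁻¹)⁻¹ = y * t * y⁻¹ by group, e.1, mul_inv_cancel_right], by rw [← cj_cj, e.2]⟩⟩

theorem DW.fuse (w : DW t V W) (c : Cen L t) (j : JF L T V Q M z d x) (hb : b ∈ M) (b2 : b * b = 1) (b1 : b ≠ 1) :
    ∃ g ∈ normalizer (W : Set G), g * t * g⁻¹ = t * b := by
  have bt := c.tc b (j.ML hb)
  have cW : Nat.card W = 2 ^ 22 := by rw [card_dbl w.toDbl, j.cV]; rfl
  have h1 : ∀ v ∈ V, ∃ k, k * t * k⁻¹ = v * t := fun v hv => (w.onto v hv).imp fun k e => by rw [conj_t w.tt, e.2]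
  have h2 : ∀ k, k * t * k⁻¹ ∉ W := fun k hk => by
    have := (c.rank_conj j w.sq fun a ha => w.comm a ha _ hk).1
    omega
  obtain ⟨g, hg⟩ : ∃ g, g * t * g⁻¹ = t * b := by
    obtain ⟨l, hl, e⟩ := j.cls b (j.ML hb) b2 b1
    obtain ⟨k, hk⟩ := h1 _ (show l * b * l⁻¹ ∈ V from e.elim (· ▸ j.zV) (· ▸ j.dV))
    refine ⟨l⁻¹ * k, ?_⟩
    rw [show l⁻¹ * k * t * (l⁻¹ * k)⁻¹ = l⁻¹ * (k * t * k⁻¹) * l by group, hk, mul_assoc l⁻¹, mul_assoc _ t, ← c.tc l hl, ← bt]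
    group
  have uu : t * b * (t * b) = 1 := by rw [mul_assoc, ← mul_assoc b, bt, mul_assoc, b2, mul_one, c.tt]
  have h3 : ∀ a ∈ W, t * b * a * (t * b)⁻¹ ∈ W := fun a ha => by
    simpa only [mul_inv_rev, w.ti, mul_assoc] using w.tdt_mem (w.nW b bt (j.nM b hb) a ha)
  have h4 : t * b ∉ W := hg ▸ h2 g
  generalize t * b = u at *
  have ui := inv_eq_of_mul_eq_one_right uu
  have h5 := card_le_sq w.sq uu h3
  rw [cW, show 2 ^ 22 = (2 ^ 11) ^ 2 by norm_num, Nat.pow_le_pow_iff_left (by norm_num)] at h5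
  have h6 : ∀ a ∈ W ⊓ centralizer {u}, a * u = u * a := fun a ha => mem_cen.1 ha.2
  have h7 : ∀ a ∈ zpowers u ⊔ W ⊓ centralizer {u}, a * a = 1 ∧ a * u = u * a := fun a ha => by
    rcases (mem_E uu h6).1 ha with k | k
    · exact ⟨w.sq a k.1, h6 a k⟩
    · have k1 := h6 _ k
      rw [← mul_assoc, mul_left_inj] at k1
      exact ⟨by simpa only [mul_assoc, ← mul_assoc u a u, ← k1, uu, mul_one] using w.sq _ k.1, k1⟩
  obtain ⟨y, hy, e⟩ := (c.rank_conj j (fun a ha => (h7 a ha).1) fun a ha => hg ▸ (h7 a ha).2).2 (by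
    rw [GT.card_sup_of_inf_eq_bot (zpowers_le.2 (mem_normalizer_of_conj_mem fun a ha => by
      rwa [← h6 a ha, mul_inv_cancel_right])) (eq_bot_iff.2 fun a ha => by_contra fun k =>
        h4 (eq_of_mem_zpowers_two uu ha.1 k ▸ (mem_inf.1 ha.2).1)), Nat.card_zpowers,
      orderOf_eq_prime (p := 2) (x := u) (by rw [sq, uu]) fun k => h4 (k ▸ one_mem _)]
    omega)
  rw [hg] at hy
  have h8 : ∀ a ∈ W, ∀ v ∈ V, y * a * y⁻¹ ≠ v * t := fun a ha v hv k => by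
    obtain ⟨n, hn⟩ := h1 v hv
    refine h2 (y⁻¹ * n) ?_
    rwa [show y⁻¹ * n * t * (y⁻¹ * n)⁻¹ = y⁻¹ * (n * t * n⁻¹) * y by group, hn, ← k, show y⁻¹ * (y * a * y⁻¹) * y = a by group]
  have h9 : cj y (W ⊓ centralizer {u}) = V := eq_of_le_of_card_ge (cj_le_iff.2 fun a ha =>
    ((mem_E c.tt w.tV).1 (e ▸ conj_mem_cj.2 (mem_sup_right ha))).resolve_right fun k =>
      h8 a ha.1 _ k (by rw [mul_assoc _ t, c.tt, mul_one])) (by rwa [card_cj, j.cV])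
  refine ⟨y⁻¹, inv_mem (mem_normalizer_of_conj_mem fun a ha => ?_), by rw [← hy]; group⟩
  have p := w.ab.toPre
  have k1 : y * a * y⁻¹ ∈ p.Dt := ⟨fun v hv => by
    simpa [mul_assoc, inv_mul_eq_iff_eq_mul, eq_mul_inv_iff_mul_eq] using
      congrArg (y * · * y⁻¹) (w.comm a ha _ (mem_cj.1 (h9.ge hv)).1), by
    have k2 := w.comm a ha _ (h3 a ha)
    rw [ph, ← hy, conj_mul, conj_inv, conj_mul, conj_mul, w.inv ha, ← h9, conj_mem_cj]
    rw [ui] at k2 h3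
    refine mem_inf.2 ⟨by simpa only [mul_assoc] using mul_mem ha (h3 a ha), mem_cen.2 ?_⟩
    calc _ = a * (u * a * u) * u := by group
      _ = u * (a * u * a * u) := by rw [k2]; group⟩
  obtain ⟨a0, k2, k3⟩ := w.onto _ k1.2
  have k4 : a0 ∈ p.Dt := ⟨fun v hv => w.comm _ k2 _ (w.le hv), w.mem _ k2⟩
  rcases p.eq_cases k4 k1 k3 with ⟨v, hv, k⟩ | ⟨v, hv, k⟩
  · exact k ▸ mul_mem k2 (w.le hv)
  · have k5 := p.sq_mul_V (mul_mem k4 p.t_mem) hv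
    rw [← k, conj_mul, w.sq a ha, mul_one, mul_inv_cancel, p.sq_mul_t k4, w.sq _ k2, one_mul] at k5
    exact absurd (by rw [k, mul_assoc, ← w.tV v hv, mul_assoc]) (h8 a ha _ (mul_mem (w.ker k2 k5.symm) hv))

end Cfsg.Agent.Wj
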