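import Mathlib
import Cfsg.Agent.Wj.Defs
import Cfsg.Agent.Perm.Witt
import Cfsg.Agent.Inv.SPECore
import Cfsg.Agent.GT.FrobeniusBasic

/-!
Two commuting subgroups acting on a group of order `2 ^ 22`.
-/

set_option autoImplicit false

namespace Cfsg.Agent.Wj

open Cfsg.Agent.Rec Cfsg.Agent.Inv.Fz Cfsg.Agent.Wr Subgroup

universe u v

namespace UA

variable {H : Type u} {W : Type v} [Group H] [Group W] (ρ : H →* MulAut W)

/-- Fixed points. -/
def fx (g : H) : Subgroup W := (ρ g).toMonoidHom.eqLocus (MonoidHom.id W)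

/-- Stabiliser. -/
def st (w : W) : Subgroup H := (MulAction.stabilizer (MulAut W) w).comap ρ

variable {ρ}

theorem mem_fx {g : H} {w : W} : w ∈ fx ρ g ↔ ρ g w = w := Iff.rfl

theorem mem_st {g : H} {w : W} : g ∈ st ρ w ↔ ρ g w = w := Iff.rfl

theorem app (a b : H) (w : W) : ρ a (ρ b w) = ρ (a * b) w := by rw [map_mul]; rfl

theorem fx_comm {a g : H} (h : a * g = g * a) {w : W} (hw : w ∈ fx ρ g) : ρ a w ∈ fx ρ g := by
  rw [mem_fx, app, ← h, ← app, mem_fx.1 hw]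

theorem card_fx [Finite W] (hρ : Function.Injective ρ) (hW : Nat.card W = 2 ^ 22) {φ g : H} (h23 : φ ^ 23 = 1)
    (fpf : ∀ w, ρ φ w = w → w = 1) (hc : φ * g = g * φ) (g1 : g ≠ 1) {w : W} (hw : w ∈ fx ρ g) (w1 : w ≠ 1) :
    Nat.card (fx ρ g) = 2 ^ 11 := by
  have h1 := Perm.ncard_modEq_fixed_of_pow (k := 1) (by norm_num : Nat.Prime 23) (g := ρ φ)
    (by rw [pow_one, ← map_pow, h23, map_one]) (fx ρ g : Set W) (Set.toFinite _) fun x hx => fx_comm hc hx
  rw [show {x ∈ (fx ρ g : Set W) | ρ φ • x = x} = {1} from Set.ext fun x =>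
    ⟨fun e => fpf x e.2, by rintro rfl; exact ⟨one_mem _, map_one _⟩⟩, Set.ncard_singleton] at h1
  obtain ⟨j, hj, e⟩ := (Nat.dvd_prime_pow Nat.prime_two).1 (hW ▸ (fx ρ g).card_subgroup_dvd_card)
  have h2 : 2 ^ j ≡ 1 [MOD 23] := e ▸ h1
  have h3 : j ≠ 0 := by
    rintro rfl
    exact w1 (mem_bot.1 (card_eq_one.1 e ▸ hw))
  have h4 : j ≠ 22 := by
    rintro rfl
    have := eq_top_of_card_eq _ (e.trans hW.symm)
    exact g1 (hρ (by rw [map_one]; exact MulEquiv.ext fun x => mem_fx.1 (this ▸ mem_top x)))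
  rw [e]
  interval_cases j <;> simp_all [Nat.ModEq]

theorem mem_of_zpow [Finite H] {S : Subgroup H} {f a : H} (o : orderOf f = 23) (ha : a ∈ zpowers f) (a1 : a ≠ 1)
    (h : a ∈ S) : f ∈ S := by
  haveI : Fact (Nat.Prime 23) := ⟨by norm_num⟩
  have := zpowers_eq_top_of_prime_card (G := zpowers f) (p := 23) (by rw [Nat.card_zpowers, o])
    (g := ⟨a, ha⟩) fun e => a1 (congrArg Subtype.val e)
  obtain ⟨n, e⟩ := this.ge (mem_top ⟨f, mem_zpowers f⟩)
  exact (show a ^ n = f from congrArg Subtype.val e) ▸ S.zpow_mem h n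

theorem dec [Finite W] (hW : Nat.card W = 2 ^ 22) {A B : Subgroup W} (hA : Nat.card A = 2 ^ 11)
    (hB : Nat.card B = 2 ^ 11) (h : ∀ w ∈ A, w ∈ B → w = 1) (w : W) : ∃ a ∈ A, ∃ b ∈ B, a * b = w := by
  obtain ⟨⟨a, b⟩, e, -⟩ := (isComplement'_of_card_mul_and_disjoint (by rw [hA, hB, hW]; norm_num)
    (disjoint_def.2 fun {w} => h w)).existsUnique w
  exact ⟨a, a.2, b, b.2, e⟩

end UA

open UA in
theorem exists_U {H : Type u} {W : Type v} [Group H] [Group W] [Finite H] [Finite W] (ρ : H →* MulAut W)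
    (hρ : Function.Injective ρ) (sq : ∀ w : W, w * w = 1) (hW : Nat.card W = 2 ^ 22) {K : Subgroup H}
    [IsSimpleGroup K] {τ f k : H} (ττ : τ * τ = 1) (cm : ∀ a ∈ K, ∀ b ∈ K, a * (τ * b * τ) = τ * b * τ * a)
    (hf : f ∈ K) (hk : k ∈ K) (o : orderOf f = 23) (e : k * f * k⁻¹ = f * f)
    (fpf : ∀ w, ρ (f * (τ * f * τ)) w = w → w = 1) :
    ∃ U : Subgroup W, (∀ a ∈ K, ∀ u ∈ U, ρ a u ∈ U) ∧ (∀ a ∈ K, ∀ u ∈ U, ρ a (ρ τ u) = ρ τ u) ∧
      (∀ u ∈ U, ρ τ u ∈ U → u = 1) ∧ 2 ^ 11 ≤ Nat.card U := by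
  have _ := sq
  haveI : Fact (Nat.Prime 23) := ⟨by norm_num⟩
  have s1 : ∀ w ∈ fx ρ (τ * f * τ), ρ τ w ∈ fx ρ f := fun w hw => by
    rw [mem_fx, app, show f * τ = τ * (τ * f * τ) by rw [← mul_assoc, ← mul_assoc, ττ, one_mul], ← app, mem_fx.1 hw]
  have s2 : ∀ w ∈ fx ρ f, ρ τ w ∈ fx ρ (τ * f * τ) := fun w hw => by
    rw [mem_fx, app, mul_assoc, ττ, mul_one, ← app, mem_fx.1 hw]
  have o' : orderOf (τ * f * τ) = 23 := by
    rw [← o]
    nth_rewrite 2 [← inv_eq_of_mul_eq_one_right ττ]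
    exact (MulAut.conj τ).orderOf_eq f
  have cK : ∀ a ∈ K, Commute a (τ * f * τ) := fun a ha => cm a ha f hf
  generalize τ * f * τ = g at *
  have c := cK f hf
  have f1 : f ≠ 1 := by rintro rfl; simp at o
  have g1 : g ≠ 1 := by rintro rfl; simp at o'
  have ka : ∀ a ∈ zpowers f, k * a * k⁻¹ = a * a := by
    rintro _ ⟨n, rfl⟩
    rw [← conj_zpow, e, (Commute.refl f).mul_zpow]
  have ng : g ∉ zpowers f := fun h => g1 (by
    have := ka g h
    rw [(cK k hk).mul_inv_cancel] at this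
    exact left_eq_mul.1 this)
  have dj : ∀ w, f ∈ st ρ w → g ∈ st ρ w → w = 1 := fun w h1 h2 => fpf w (mul_mem h1 h2)
  have cf : ∀ {x : H}, Commute (f * g) x → x ≠ 1 → ∀ {w : W}, w ∈ fx ρ x → w ≠ 1 → Nat.card (fx ρ x) = 2 ^ 11 :=
    fun hx x1 w hw w1 => card_fx hρ hW (by
      rw [c.mul_pow, ← o, pow_orderOf_eq_one, o, ← o', pow_orderOf_eq_one, one_mul]) fpf hx x1 hw w1
  obtain ⟨w, hw, w1⟩ : ∃ w ∈ fx ρ g, w ≠ 1 := by
    obtain ⟨p1, -, p3⟩ := Inv.SE.closure_pair_noncyclic o o' c ng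
    obtain ⟨x, w, w1, hw, x1⟩ : ∃ (x : closure ({f, g} : Set H)) (w : W), w ≠ 1 ∧ ρ x w = w ∧ x ≠ 1 := by
      by_contra hc
      push Not at hc
      letI := MulAction.compHom W (ρ.comp (closure ({f, g} : Set H)).subtype)
      have := GT.Frob.card_dvd_card_sub_one_of_free (A := closure ({f, g} : Set H)) (1 : W)
        (fun a => map_one (ρ a)) hc
      obtain ⟨n, hn⟩ := p1.exists_card_eq
      rw [hn, hW] at this
      rcases n with _ | _ | n
      · exact p3 (isCyclic_of_card_dvd_prime (p := 23) (by simp [hn]))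
      · exact p3 (isCyclic_of_card_dvd_prime (p := 23) (by simp [hn]))
      · exact absurd ((pow_dvd_pow 23 (by omega : 2 ≤ n + 1 + 1)).trans this) (by norm_num)
    obtain ⟨x, hx⟩ := x
    have cc : ∀ {a b : H}, a ∈ zpowers f → b ∈ zpowers g → Commute a b := by
      rintro _ _ ⟨i, rfl⟩ ⟨j, rfl⟩
      exact c.zpow_zpow i j
    obtain ⟨a, ha, b, hb, rfl⟩ : ∃ a ∈ zpowers f, ∃ b ∈ zpowers g, a * b = x := by
      clear hw x1
      induction hx using closure_induction with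
      | mem a ha =>
        rcases ha with rfl | rfl
        exacts [⟨_, mem_zpowers _, 1, one_mem _, mul_one _⟩, ⟨1, one_mem _, _, mem_zpowers _, one_mul _⟩]
      | one => exact ⟨1, one_mem _, 1, one_mem _, one_mul _⟩
      | mul _ _ _ _ iha ihb =>
        obtain ⟨a, ha, b, hb, rfl⟩ := iha
        obtain ⟨a', ha', b', hb', rfl⟩ := ihb
        exact ⟨_, mul_mem ha ha', _, mul_mem hb hb', (cc ha' hb).mul_mul_mul_comm _ _⟩
      | inv _ _ iha =>
        obtain ⟨a, ha, b, hb, rfl⟩ := iha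
        exact ⟨_, inv_mem ha, _, inv_mem hb, by rw [mul_inv_rev, (cc ha hb).inv_inv]⟩
    have x1' : a * b ≠ 1 := fun e => x1 (Subtype.ext e)
    by_cases a1 : a = 1
    · subst a1
      rw [one_mul] at x1'
      exact ⟨w, mem_of_zpow (S := st ρ w) o' hb x1' (by simpa [mem_st] using hw), w1⟩
    by_cases b1 : b = 1
    · subst b1
      exact ⟨_, s2 w (mem_of_zpow (S := st ρ w) o ha a1 (by simpa [mem_st] using hw)), by simpa using w1⟩
    exfalso
    have kb : Commute k b := by obtain ⟨j, rfl⟩ := hb; exact (cK k hk).zpow_right j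
    have ca : ∀ {a a' : H}, a ∈ zpowers f → a' ∈ zpowers f → Commute a a' := by
      rintro _ _ ⟨i, rfl⟩ ⟨j, rfl⟩
      exact (Commute.refl f).zpow_zpow i j
    have nx : ∀ a ∈ zpowers f, ∀ w ∈ fx ρ (a * b), ρ k w ∈ fx ρ (a * a * b) := fun a ha w hw => by
      rw [mem_fx, app, ← ka a ha, mul_assoc _ b, ← kb.eq, mul_assoc, inv_mul_cancel_left, mul_assoc, ← app,
        mem_fx.1 hw]
    have cd : ∀ a ∈ zpowers f, ∀ w ∈ fx ρ (a * b), w ≠ 1 → Nat.card (fx ρ (a * b)) = 2 ^ 11 :=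
      fun a ha w hw w1 => cf (((ca (mem_zpowers f) ha).mul_right (cc (mem_zpowers f) hb)).mul_left
        ((cc ha (mem_zpowers g)).symm.mul_right (by obtain ⟨j, rfl⟩ := hb; exact (Commute.refl g).zpow_right j)))
        (fun e => ng (mem_of_zpow o' hb b1 (eq_inv_of_mul_eq_one_right e ▸ inv_mem ha))) hw w1
    have ds : ∀ i j : ℕ, 0 < j → j < 23 → ∀ w ∈ fx ρ (a ^ i * b), w ∈ fx ρ (a ^ (j + i) * b) → w = 1 :=
      fun i j j0 j1 w h1 h2 => by
        have h3 : a ^ j ∈ st ρ w := by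
          simpa [pow_add, mul_assoc] using mul_mem (mem_st.2 h2) (inv_mem (mem_st.2 h1))
        have oa : orderOf a = 23 := orderOf_eq_prime (by
          obtain ⟨n, rfl⟩ := ha
          rw [← zpow_natCast, ← zpow_mul, mul_comm, zpow_mul, zpow_natCast, ← o, pow_orderOf_eq_one, one_zpow]) a1
        have h4 := mem_of_zpow o (pow_mem ha j) (pow_ne_one_of_lt_orderOf j0.ne' (oa ▸ j1)) h3
        refine dj w h4 (mem_of_zpow o' hb b1 ?_)
        simpa using mul_mem (inv_mem (zpowers_le_of_mem h4 (pow_mem ha i))) (mem_st.2 h1)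
    have h2 := nx a ha w hw
    have h3 := nx _ (mul_mem ha ha) _ h2
    have w2 : ρ k w ≠ 1 := by simpa using w1
    have d12 : ∀ w ∈ fx ρ (a * b), w ∈ fx ρ (a * a * b) → w = 1 := by
      simpa [pow_succ] using ds 1 1 (by norm_num) (by norm_num)
    have d13 : ∀ w ∈ fx ρ (a * b), w ∈ fx ρ (a * a * (a * a) * b) → w = 1 := by
      simpa [pow_succ, mul_assoc] using ds 1 3 (by norm_num) (by norm_num)
    have d23 : ∀ w ∈ fx ρ (a * a * b), w ∈ fx ρ (a * a * (a * a) * b) → w = 1 := by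
      simpa [pow_succ, mul_assoc] using ds 2 2 (by norm_num) (by norm_num)
    obtain ⟨u, hu, v, hv, e⟩ := dec hW (cd a ha w hw w1) (cd _ (mul_mem ha ha) _ h2 w2) d12 (ρ k (ρ k w))
    have a4 := mul_mem (mul_mem ha ha) (mul_mem ha ha)
    have cm' : ∀ a' ∈ zpowers f, a * a * (a * a) * b * (a' * b) = a' * b * (a * a * (a * a) * b) := fun a' h' =>
      (((ca a4 h').mul_right (cc a4 hb)).mul_left ((cc h' hb).symm.mul_right (Commute.refl b))).eq
    have e2 := mem_fx.1 h3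
    rw [← e, map_mul] at e2
    have e3 : u⁻¹ * ρ (a * a * (a * a) * b) u = v * (ρ (a * a * (a * a) * b) v)⁻¹ := by
      rw [inv_mul_eq_iff_eq_mul, ← mul_assoc u, ← e2, mul_inv_cancel_right]
    have e4 := d12 _ (mul_mem (inv_mem hu) (fx_comm (cm' a ha) hu))
      (e3 ▸ mul_mem hv (inv_mem (fx_comm (cm' _ (mul_mem ha ha)) hv)))
    rw [d13 u hu (inv_mul_eq_one.1 e4).symm, d23 v hv (mul_inv_eq_one.1 (e3 ▸ e4)).symm] at e
    exact w2 (by simpa using e.symm)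
  have cU := cf (c.mul_left (Commute.refl g)) g1 hw w1
  have cU' := cf ((Commute.refl f).mul_left c.symm) f1 (s1 w hw) (by simpa using w1)
  have hK : ∀ a ∈ K, ∀ u ∈ fx ρ f, ρ a u ∈ fx ρ f := fun a ha u hu => by
    obtain ⟨⟨v, hv⟩, e⟩ := Finite.injective_iff_surjective.1 (show Function.Injective fun v : fx ρ f =>
      (⟨(v : W)⁻¹ * ρ g v, mul_mem (inv_mem v.2) (fx_comm c.symm v.2)⟩ : fx ρ f) from fun v v' e => by
        have e : (v : W)⁻¹ * ρ g v = (v' : W)⁻¹ * ρ g v' := congrArg Subtype.val e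
        refine Subtype.ext (mul_inv_eq_one.1 (dj _ (mem_fx.1 (mul_mem v'.2 (inv_mem v.2))) ?_)).symm
        rw [mem_st, map_mul, map_inv, ← mul_inv_cancel_left (v' : W) (ρ g v'), ← e]
        group) ⟨u, hu⟩
    obtain ⟨x, hx, y, hy, e'⟩ := dec hW cU cU' (fun w h1 h2 => dj w h2 h1) (ρ a v)
    have e : v⁻¹ * ρ g v = u := congrArg Subtype.val e
    rw [← e, map_mul, map_inv, app, (cK a ha).eq, ← app, ← e', map_mul, mem_fx.1 hx, mul_inv_rev, mul_assoc,
      inv_mul_cancel_left]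
    exact mul_mem (inv_mem hy) (fx_comm c.symm hy)
  let N : Subgroup K := (⨅ u ∈ fx ρ f, st ρ u).subgroupOf K
  have mN : ∀ {a : K}, a ∈ N ↔ ∀ u ∈ fx ρ f, ρ a u = u := by simp [N, mem_subgroupOf, mem_iInf, mem_st]
  have hN : N.Normal := ⟨fun a ha b => mN.2 fun u hu => by
    rw [coe_mul, coe_mul, ← app, ← app, mN.1 ha _ (hK _ b⁻¹.2 u hu), app]
    simp⟩
  have hT := hN.eq_bot_or_eq_top.resolve_left fun e =>
    f1 (congrArg Subtype.val (mem_bot.1 (e.le ((mN (a := ⟨f, hf⟩)).2 fun u hu => hu))))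
  exact ⟨fx ρ g, fun a ha u hu => fx_comm (cK a ha) hu, fun a ha u hu =>
    (mN (a := ⟨a, ha⟩)).1 (hT ▸ mem_top _) _ (s1 u hu), fun u hu h =>
      (map_eq_one_iff _ (ρ τ).injective).1 (dj _ (s1 u hu) h), cU.ge⟩

end Cfsg.Agent.Wj
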