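import Mathlib
import Cfsg.Agent.Wj.Defs

/-!
The canonical double of `V`.
-/

set_option autoImplicit false

namespace Cfsg.Agent.Wj

open Cfsg.Agent.Rec Cfsg.Agent.Inv.Fz Cfsg.Agent.Wr Subgroup
open scoped commutatorElement

universe u v

variable {G : Type u} [Group G] [Finite G] {L T V Q M : Subgroup G} {z d x t : G}

theorem d3_norm {n : G} (h : ∀ v ∈ V, n * v * n⁻¹ ∈ V) : n ∈ normalizer (V : Set G) :=
  mem_normalizer_fintype h

theorem exists_ab3 (h : Pre t V) (hs : ∀ e ∈ h.Dt, e * e = 1 ∨ e * e = ph t e) (ho : ∀ w ∈ V, ∃ e ∈ h.Dt, ph t e = w)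
    (h8 : 4 < Nat.card V) : ∃ W, Ab t V W ∧
      (∀ n, n * t = t * n → (∀ v ∈ V, n * v * n⁻¹ ∈ V) → ∀ w ∈ W, n * w * n⁻¹ ∈ W) ∧
      ((∀ w ∈ W, w * w = 1) ∨ ∀ w ∈ W, w * w = ph t w) := by
  have _ := h8
  have c3 : ∀ k : ℕ, k = 0 ∨ k = 1 → ∀ w ∈ V, ∃ d ∈ h.Dt, ph t d = w ∧ (w = 1 → d ∈ V) ∧ d * d = w ^ k := by
    intro k hk w hw
    by_cases e : w = 1
    · exact ⟨1, one_mem _, by rw [ph_one h.tt, e], fun _ => one_mem _, by simp [e]⟩
    obtain ⟨a, h4, h5⟩ := ho w hw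
    have h6 : ph t (a * t) = w := by rw [ph_mul_of_comm rfl, h5]
    have h7 := h.sq_mul_t h4
    rcases hs a h4 with h8 | h8 <;> rcases hk with rfl | rfl
    · exact ⟨a, h4, h5, fun e' => absurd e' e, by simpa using h8⟩
    · exact ⟨a * t, mul_mem h4 h.t_mem, h6, fun e' => absurd e' e, by rw [h7, h8, h5]; simp⟩
    · exact ⟨a * t, mul_mem h4 h.t_mem, h6, fun e' => absurd e' e, by rw [h7, h8, h.sq _ h4.2]; simp⟩
    · exact ⟨a, h4, h5, fun e' => absurd e' e, by rw [h8, h5]; simp⟩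
  have fin : ∀ k : ℕ, k = 0 ∨ k = 1 → (∀ a ∈ h.Dt, ∀ b ∈ h.Dt, a * a = ph t a ^ k → b * b = ph t b ^ k → ph t a ≠ 1 →
      ph t b ≠ 1 → ph t a ≠ ph t b → a * b = b * a) → ∃ D : Subgroup G, Ab t V D ∧
      (∀ n, n * t = t * n → (∀ v ∈ V, n * v * n⁻¹ ∈ V) → ∀ w ∈ D, n * w * n⁻¹ ∈ D) ∧
      ∀ d ∈ D, d * d = ph t d ^ k := fun k hk hc => by
    obtain ⟨D, hD, e⟩ := h.ab_of_comm k (c3 k hk) hc
    refine ⟨D, hD, fun n hn hV a ha => ?_, fun a ha => ((e a).1 ha).2.2⟩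
    obtain ⟨h4, h5, h6⟩ := (e a).1 ha
    refine (e _).2 ⟨h.conj_mem hn (d3_norm hV) h4, fun e1 => hV _ (h5 ?_), ?_⟩
    · rwa [ph_conj hn, conj_eq_one] at e1
    · rw [conj_mul, h6, ph_conj hn, conj_pow]
  have cs : ∀ a ∈ h.Dt, ∀ b ∈ h.Dt, a * a = 1 → b * b = 1 → a * b * (a * b) = ⁅a, b⁆ := fun a ha b hb a2 b2 => by
    rw [h.mul_sq ha hb, a2, b2, one_mul, one_mul]
  have c4 : ∀ a ∈ h.Dt, ∀ b ∈ h.Dt, a * a = 1 → b * b = 1 → ⁅a, b⁆ = 1 ∨ ⁅a, b⁆ = ph t a * ph t b :=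
    fun a ha b hb a2 b2 => by simpa only [cs a ha b hb a2 b2, h.mul ha hb] using hs _ (mul_mem ha hb)
  have key : ∀ a ∈ h.Dt, ∀ b ∈ h.Dt, ∀ c ∈ h.Dt, a * a = 1 → b * b = 1 → c * c = 1 → ph t b ≠ 1 → ph t c ≠ 1 →
      ph t a ≠ ph t b → ph t a ≠ ph t c → (⁅a, b⁆ = 1 ↔ ⁅a, c⁆ = 1) := fun a ha b hb c hc a2 b2 c2 b1 c1 ab ac => by
    obtain ⟨i, hi, e, -, i2⟩ := c3 0 (.inl rfl) _ (mul_mem ha.2 hb.2)
    rw [pow_zero] at i2
    have k1 := c4 a ha c hc a2 c2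
    have k2 := c4 b hb c hc b2 c2
    have k3 := c4 i hi c hc i2 c2
    have k4 := h.comm_mul_left ha hb hc
    have k5 := cs a ha b hb a2 b2
    have n1 : ph t a * ph t b ≠ 1 := fun e => ab ((eq_inv_of_mul_eq_one_left e).trans (h.inv hb.2))
    have n2 : ph t a * ph t c ≠ 1 := fun e => ac ((eq_inv_of_mul_eq_one_left e).trans (h.inv hc.2))
    have e1 : ph t a * ph t c * (ph t b * ph t c) = ph t a * ph t b := by
      rw [h.comm _ hb.2 _ hc.2, mul_assoc, ← mul_assoc (ph t c), h.sq _ hc.2, one_mul]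
    have cw : ∀ w ∈ V, ⁅w, c⁆ = 1 := fun w hw => by rw [h.comm_symm (h.le_Dt hw) hc, h.comm_V hc hw]
    rw [e] at k3
    rcases h.eq_cases hi (mul_mem ha hb) (e.trans (h.mul ha hb).symm) with ⟨w, hw, e2⟩ | ⟨w, hw, e2⟩
    · rw [e2, h.sq_mul_V hi hw, i2] at k5
      rw [e2, h.comm_mul_left hi (h.le_Dt hw) hc, cw w hw, mul_one] at k4
      refine iff_of_true k5.symm (k1.resolve_right fun k1 => ?_)
      rcases k2 with k2 | k2 <;> rcases k3 with k3 | k3 <;> rw [k1, k2, k3] at k4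
      · exact n2 (by simpa using k4.symm)
      · exact b1 (by simpa using k4)
      · exact n1 (e1 ▸ k4.symm)
      · exact c1 (by simpa [e1] using k4)
    · rw [e2, h.sq_mul_V (mul_mem hi h.t_mem) hw, h.sq_mul_t hi, i2, one_mul, e] at k5
      rw [e2, h.comm_mul_left (mul_mem hi h.t_mem) (h.le_Dt hw) hc, cw w hw, mul_one,
        h.comm_mul_left hi h.t_mem hc, h.comm_symm h.t_mem hc, h.comm_t] at k4
      refine iff_of_false (k5 ▸ n1) fun k1 => ?_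
      rcases k2 with k2 | k2 <;> rcases k3 with k3 | k3 <;> rw [k1, k2, k3] at k4
      · exact c1 (by simpa using k4)
      · exact n1 (by rwa [mul_assoc, h.sq _ hc.2, mul_one, one_mul] at k4)
      · exact b1 (by simpa using k4.symm)
      · rw [mul_assoc, h.sq _ hc.2, mul_one, one_mul, h.comm _ hb.2 _ hc.2] at k4
        exact ac (mul_right_cancel k4)
  by_cases hc : ∀ a ∈ h.Dt, ∀ b ∈ h.Dt, a * a = ph t a ^ 0 → b * b = ph t b ^ 0 → ph t a ≠ 1 →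
      ph t b ≠ 1 → ph t a ≠ ph t b → a * b = b * a
  · obtain ⟨D, h4, h5, h6⟩ := fin 0 (.inl rfl) hc
    exact ⟨D, h4, h5, .inl (by simpa using h6)⟩
  push Not at hc
  obtain ⟨a, ha, b, hb, a2, b2, a1, b1, ab, hne⟩ := hc
  rw [pow_zero] at a2 b2
  rw [Ne, ← commutatorElement_eq_one_iff_mul_comm] at hne
  have all : ∀ a' ∈ h.Dt, ∀ b' ∈ h.Dt, a' * a' = 1 → b' * b' = 1 → ph t a' ≠ 1 → ph t b' ≠ 1 → ph t a' ≠ ph t b' →
      ⁅a', b'⁆ ≠ 1 := fun a' ha' b' hb' a2' b2' a1' b1' ab' k => hne (by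
    by_cases e : ph t a = ph t a'
    · rw [key a ha b hb b' hb' a2 b2 b2' b1 b1' ab (e ▸ ab'), h.comm_symm ha hb',
        key b' hb' a ha a' ha' b2' a2 a2' a1 a1' (e ▸ ab'.symm) ab'.symm, h.comm_symm hb' ha', k]
    · rw [key a ha b hb a' ha' a2 b2 a2' b1 a1' ab e, h.comm_symm ha ha',
        key a' ha' a ha b' hb' a2' a2 b2' a1 b1' (Ne.symm e) ab', k])
  obtain ⟨D, h4, h5, h6⟩ := fin 1 (.inr rfl) fun a' ha' b' hb' a2' b2' a1' b1' ab' => by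
    rw [pow_one] at a2' b2'
    have t1 := mul_mem ha' h.t_mem
    have t2 := mul_mem hb' h.t_mem
    have s1 : a' * t * (a' * t) = 1 := by rw [h.sq_mul_t ha', a2', h.sq _ ha'.2]
    have s2 : b' * t * (b' * t) = 1 := by rw [h.sq_mul_t hb', b2', h.sq _ hb'.2]
    have k1 := (c4 _ t1 _ t2 s1 s2).resolve_left (all _ t1 _ t2 s1 s2 (by rwa [ph_mul_of_comm rfl])
      (by rwa [ph_mul_of_comm rfl]) (by rwa [ph_mul_of_comm rfl, ph_mul_of_comm rfl]))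
    rw [ph_mul_of_comm rfl, ph_mul_of_comm rfl, h.comm_mul_left ha' h.t_mem t2, h.comm_mul_right ha' hb' h.t_mem,
      h.comm_mul_right h.t_mem hb' h.t_mem, h.comm_symm h.t_mem hb', h.comm_t, h.comm_t, h.comm_t, h.ph_t, mul_one,
      mul_assoc] at k1
    exact commutatorElement_eq_one_iff_mul_comm.1 (by simpa using k1)
  exact ⟨D, h4, h5, .inr (by simpa using h6)⟩

theorem d3_add {A : Type*} [AddCommGroup A] (σ τ : A →+ A) (σσ : ∀ x, σ (σ x) = x) (ττ : ∀ x, τ (τ x) = x)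
    (στ : ∀ x, σ (τ x) = τ (σ x)) {x y : A} (hx : x + x + (x + x) = 0) (hy : y + y + (y + y) = 0)
    (h1 : σ (y + y) + (y + y) = τ (x + x) + (x + x))
    (h2 : σ (x + x) + (x + x) + (σ (y + y) + (y + y)) = τ (y + y) + (y + y)) :
    ∃ p q : A, p + p = 0 ∧ q + q = 0 ∧ σ p + p + (τ p + p) + (τ q + q) = τ (y + y) + (y + y) ∧
      τ p + p + (σ q + q) = τ (x + x) + (x + x) + (τ (y + y) + (y + y)) := by
  have h3 := congrArg τ h1
  have hy' := congrArg τ hy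
  refine ⟨σ y - y - (τ x - x), σ x - x + (σ y - y) - (τ y - y), ?_, ?_, ?_, ?_⟩ <;>
    simp only [map_add, map_sub, map_zero, σσ, ττ, στ] at *
  · linear_combination (norm := abel1) h1 + hx - hy
  · linear_combination (norm := abel1) h2 - hx
  · linear_combination (norm := abel1) h2 + h3 - hy - hy'
  · linear_combination (norm := abel1) h1 - hy - hy'

omit [Finite G] in
theorem d3_sq (h : Pre t V) {N : Subgroup G} (hN : ∀ n ∈ N, n * t = t * n) (hV : N ≤ normalizer (V : Set G)) {a m : G}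
    (ha : a ∈ h.Dt) (hm : m ∈ N) (e1 : m * ph t a * m⁻¹ = z)
    (h3 : ∀ w ∈ V, (∀ n ∈ N, n * z = z * n → n * w * n⁻¹ = w ∨ n * w * n⁻¹ = w * z) → w = 1 ∨ w = z) :
    a * a = 1 ∨ a * a = ph t a := by
  have c1 : ∀ n ∈ N, ∀ a ∈ h.Dt, n * a * n⁻¹ ∈ h.Dt := fun n hn a ha => h.conj_mem (hN n hn) (hV hn) ha
  have h4 := c1 m hm a ha
  rw [← ph_conj (hN m hm)] at e1
  rcases h3 _ (h.sq_mem h4) (fun n hn e2 => by
    rw [← conj_mul]
    rcases h.eq_cases h4 (c1 n hn _ h4) (by rw [ph_conj (hN n hn) (m * a * m⁻¹), e1, e2, mul_inv_cancel_right]) with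
      ⟨w, hw, e3⟩ | ⟨w, hw, e3⟩
    · exact .inl (by rw [e3, h.sq_mul_V h4 hw])
    · exact .inr (by rw [e3, h.sq_mul_V (mul_mem h4 h.t_mem) hw, h.sq_mul_t h4, e1])) with h5 | h5
  · exact .inl (by rwa [conj_mul, conj_eq_one] at h5)
  · rw [conj_mul, ← e1, ph_conj (hN m hm)] at h5
    exact .inr (by simpa using h5)

theorem Cen.exists_DW (c : Cen L t) (j : JF L T V Q M z d x) (ho : ∀ w ∈ V, ∃ e ∈ (c.pre j).Dt, ph t e = w) :
    ∃ W, DW t V W := by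
  have h := c.pre j
  have hN : ∀ n ∈ M, n * t = t * n := fun n hn => c.tc n (j.ML hn)
  have hV : M ≤ normalizer (V : Set G) := fun n hn => d3_norm (j.nM n hn)
  obtain ⟨W, hW, nW, h2 | h2⟩ := exists_ab3 h (fun a ha => by
    by_cases e : ph t a = 1
    · rcases h.ker ha e with h4 | h4
      · exact .inl (h.sq a h4)
      · have h5 := h.sq _ h4
        rw [h.sq_mul_t ha, e, mul_one] at h5
        exact .inl h5
    obtain ⟨m, hm, e1 | e1⟩ := j.orb _ ha.2 e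
    exacts [d3_sq h hN hV ha hm e1 j.sqz, d3_sq h hN hV ha hm e1 j.sqd]) ho (by rw [j.cV]; norm_num)
  · exact ⟨W, hW.dbl h2, nW⟩
  exfalso
  obtain ⟨a, ha, b, hb, a2, b2, ab, v, hv, w, hw, e1, e2, e3⟩ := j.four
  letI : CommGroup W := { (inferInstance : Group W) with mul_comm := fun x y => Subtype.ext (hW.cm _ x.2 _ y.2) }
  have mk : ∀ a ∈ M, a * a = 1 → ∃ σ : Additive W →+ Additive W, ∀ y, ((σ y).toMul : G) = a * y.toMul * a :=
    fun a ha a2 => ⟨AddMonoidHom.mk' (fun y => Additive.ofMul ⟨a * y.toMul * a⁻¹, nW a (hN a ha) (j.nM a ha) _ y.toMul.2⟩)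
      fun y y' => congrArg Additive.ofMul (Subtype.ext (by simp)), fun y =>
        congrArg (a * y.toMul * ·) (inv_eq_of_mul_eq_one_right a2)⟩
  obtain ⟨σ, hσ⟩ := mk a ha a2
  obtain ⟨τ, hτ⟩ := mk b hb b2
  have ext : ∀ {y y' : Additive W}, y = y' ↔ (y.toMul : G) = y'.toMul :=
    ⟨fun e => e ▸ rfl, fun e => Additive.toMul.injective (Subtype.ext e)⟩
  obtain ⟨v', hv', rfl⟩ := hW.onto v hv
  obtain ⟨w', hw', rfl⟩ := hW.onto w hw
  rw [← h2 _ hv'] at hv e1 e2 e3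
  rw [← h2 _ hw'] at hw e1 e2 e3
  obtain ⟨p, q, p2, q2, k1, k2⟩ := d3_add σ τ
    (fun y => ext.2 (by rw [hσ, hσ, ← mul_assoc, ← mul_assoc, a2, one_mul, mul_assoc, a2, mul_one]))
    (fun y => ext.2 (by rw [hτ, hτ, ← mul_assoc, ← mul_assoc, b2, one_mul, mul_assoc, b2, mul_one]))
    (fun y => ext.2 (by
      rw [hσ, hτ, hτ, hσ, ← mul_assoc, ← mul_assoc, ← mul_assoc, ← mul_assoc, ab, mul_assoc _ b a, ← ab, ← mul_assoc]))
    (x := Additive.ofMul ⟨v', hv'⟩) (y := Additive.ofMul ⟨w', hw'⟩) (ext.2 (h.sq _ hv)) (ext.2 (h.sq _ hw))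
    (ext.2 (by simpa only [toMul_add, coe_mul, hσ, hτ, toMul_ofMul] using e1))
    (ext.2 (by simpa only [toMul_add, coe_mul, hσ, hτ, toMul_ofMul] using e2))
  have kv : ∀ p : Additive W, p + p = 0 → (p.toMul : G) ∈ V := fun p e =>
    hW.ker' p.toMul.2 ((h2 _ p.toMul.2).symm.trans (ext.1 e))
  exact e3 _ (kv p p2) _ (kv q q2) (by simpa only [toMul_add, coe_mul, hσ, hτ, toMul_ofMul] using ext.1 k1)
    (by simpa only [toMul_add, coe_mul, hσ, hτ, toMul_ofMul] using ext.1 k2)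

end Cfsg.Agent.Wj
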