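import Mathlib
import Cfsg.Agent.Wj.Defs
import Cfsg.Agent.J4T.Mx

/-!
The even cocode as a module for `M₂₄` and for the stabilisers of a sextet and of a duad.
-/

set_option autoImplicit false
set_option linter.unusedSectionVars false

namespace Cfsg.Agent.Wj

open Cfsg.Agent.Rec Cfsg.Agent.Inv.Fz Cfsg.Agent.Spor Cfsg.Agent.Spor.MB Cfsg.Agent.Spor.J4C Cfsg.Agent.J4T Subgroup

universe u

/-- Two elements of the stabiliser of the duad with code `2`. -/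
def fbM (i : ℕ) : ℕ :=
  List.getD [nat_lit 0x1aa170b22d326a4a2dd203ca7b4c48, nat_lit 0x3c5a1ac8b030aee00e6c5bd56a2089] i idc

/-- For each code an operation (two bits) and a rank (three bits). -/
def fbT (x : ℕ) : ℕ := getP 5 31 (nat_lit 0xd6759cd334c6318be6f9c5314bc6f15d57594a52a52948c631c57158c631c6318c6318e4390a6298aaeab85214c370d739cec6719a5294c6b1acc731b5ad6a328cc6318b56d5b5ad6dd77586a1ac4f1384210de378a5294c6719d5755cb72dd6b5a82e0bc4f138c230a5695b5ad6ae2b8b5ad694a52e6799adab65d174b46d1ce338ad2b4a62988661986218c6318c4711aeebbce73994a52ad6b59da76c6318c731cc6318c5f17c63188de3784210c6b1aa2e8bb4ed3de779de7796318cd6b5ac6318b5ad68f63dad6b55d575852146c5b1adab6b5ad6ae2b8b42d0c431094a52c631885a16ae2b8a52949d274a529486218e679994a52bd6f56e1b8ae6b95d174a5294c67199e278a5695ad2b4ad6b58c631c63188c631a2e8bc6318ce7398c631a5294e5f97739ce661988e639b52d4a6298aeabade378a5a96b5ad6bcef3c6318c5715ceb3ac571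5c6318c731caeebb5ad6bb52d48ce33c53147d1f4c67199ce73bf2fc8f23ca5695a529486619c6719c5715a368dbc2f0ae2b8a5294aeabac9b26e57958c631abeaf8c6319c671ac2b0a5294cb72dc5715a6699e6398a5294c57159c671a5294c3f0fa5294cdf37de77986619b5ad65ad6bae2b8c6318739cec6318a6699c571584210c6318661989ce73af2bc7e9facd3348c230de779ac2b0d6b5aa6a9ac6318b5ad6ad6b55ad6ba52949c671cd735a3e8fae2b89ce73a5294a52948de37cdf37ae2b884210c63186e5b9ae2b8739cebb2eccd334a5294bc6f186e1b7e9fac53148ce33ad6b5bdef7ad6b5ae2b86e5b98e238cef3bae2b8d5f57b56d58ce33c731c6318ccef3bb5ad6beafa46118b56d55ad6ba6298a5294a5294b5ad6cd735ae2b884611a52948c6319ce73d6759a3e8fce739344d1c4f13ad6b5c6318e53947e1f8c6b1a8ce3394a52a529466198ce3389de776e1b8645914c130842109c671a5294c3f0f739cea6699a5294bd6f5cdf37adab6a5294c6318b5ad6b56d5a529486218ad6b584210a5294a5294c5314c6719a3e8fd43509c671c5715c6318cd334ad6b5dd374b5ad66c9b2ae2b8a5a968ce33b5ad67d5f5c5314c571585615d4350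86e1bbd6f5c4f13eefbb94a52a6298adab6c6318cdf379e679a729ccc330c671983e0fbdef79c67185615a5294bcef394a529ea7aa5294b56d5a5294ce7398ce33c63187e1f8b5ad6b5ad6be2f8ad6b5c531494a52c63186318cc4711af2bcad2b446118cdf37be6f98ca32ce7397e5f9ad6b58ce33c330cd5354a6298aa6a9ad2b4c6318a5294c5715ad2b49c270adeb7a3e8fd575584210a729c739cea5294adeb7b56d5ad2b49e679c6719b4ed3adab6c5715af2bca46916d5b59ce736699ae639884210bdef7adab63d4f5be6f9d5755a6a9ab5ad6c6318cd735b4ed3c4711de7796759dad6b5b5ad6cef3b86218bdef7a569599a66e2789c6318c6318d6358adab6ae2b8b5ad66ddb7c6318c6b1adf77d8d635ccf33ae2b8c330cc330ca5294a66999de77856158d635bdef786218c6318739ce9ce73c5715c631884210c6318a5294b56d5bd6f5ae2b8bd2f4e4390ae6b9c47116e5b99c671ae2b8b5ad6ce739a328c64d93a1e87c5314b42d0ddf77d6358a5e97a5294a5294862189ea7a84210ae2b8be6f9a5294739cea5294ae2b8bdef7a6298bcef3d6358c6318c5715b5ad6c4310ce338a5294be6f9d6b5a866199e278ae6b9b42d0a5294dc771c6318bcef3a5294a5e97a5294aceb3a5e97ae2b8c6318ae2b89ce73c5314e6398a5294c6318b5ad66318c8de37842108d635300c0)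 x

/-- The operation selected by `fbT`. -/
noncomputable def fbS (x : ℕ) : ℕ := Nat.xor (Nat.mul (fbT x / 2 % 2) x) (Split.va (fbM (fbT x % 2)) x)

theorem fbM_ok : ∀ i < 2, inM24 (fbM i) = true ∧ Split.va (fbM i) 2 = 2 := by decide +kernel

theorem fbS_ok : ∀ x < 2048, x = 0 ∨ x = 2 ∨ (fbS x ≠ 0 ∧ fbT (fbS x) / 4 < fbT x / 4) := fun x hx => by
  have h := allRange_zero (len := 2048) (f := fun x => bor (Nat.beq x 0) (bor (Nat.beq x 2) (Spor.force (fbS x) fun y =>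
    band (!Nat.beq y 0) (blt (fbT y / 4) (fbT x / 4))))) (by decide +kernel) x hx
  simpa only [Spor.force_eq, band_iff, bor_iff, nbeq_iff, blt_iff, Bool.not_eq_true', ← Bool.not_eq_true] using h

theorem fb_sqd : ∀ x < 2048, (∀ i < 2, Split.va (fbM i) x = x ∨ Split.va (fbM i) x = x ^^^ 2) → x = 0 ∨ x = 2 :=
  fun x hx k => by
  have h := allRange_zero (len := 2048) (f := fun x => bor (Nat.beq x 0) (bor (Nat.beq x 2) (!allLt 2 fun i =>
    Spor.force (Split.va (fbM i) x) fun y => bor (Nat.beq y x) (Nat.beq y (x ^^^ 2))))) (by decide +kernel) x hx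
  simp only [Spor.force_eq, bor_iff, nbeq_iff, Bool.not_eq_true', ← Bool.not_eq_true, allLt_iff] at h
  tauto

theorem fb_sqz : ∀ x < 2048, (∀ c ∈ [sL 0, sL 1, beL 2], Split.va c x = x ∨ Split.va c x = x ^^^ 1024) →
    x = 0 ∨ x = 1024 := fun x hx k => by
  have h := allRange_zero (len := 2048) (f := fun x => bor (Nat.beq x 0) (bor (Nat.beq x 1024)
    (!Spor.allL [sL 0, sL 1, beL 2] fun c =>
      Spor.force (Split.va c x) fun y => bor (Nat.beq y x) (Nat.beq y (x ^^^ 1024))))) (by decide +kernel) x hx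
  simp only [Spor.force_eq, bor_iff, nbeq_iff, Bool.not_eq_true', ← Bool.not_eq_true, Spor.allL_iff] at h
  tauto

theorem fb_comd : ∀ k < 11, ∃ p ∈ [(16, 1176), (0, 220), (0, 73), (4, 1037), (0, 144), (20, 1036), (20, 516), (16, 105),
    (16, 1108), (20, 1200), (0, 1)], p.1 < 2048 ∧ p.2 < 2048 ∧
    2 ^ k = (Split.va (fbM 0) p.1 ^^^ p.1) ^^^ (Split.va (fbM 1) p.2 ^^^ p.2) := by decide +kernel

variable {G : Type u} [Group G] [Finite G] {z : G} {π : centralizer ({z} : Set G) →* PG} {g l : ℕ → G} {ψ : M24 →* G}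

theorem val_mem (ψ : M24 →* G) (c : ℕ) : valN ψ c ∈ ψ.range := valN_mem (L := ψ.range) (fun y => ⟨y, rfl⟩) c

theorem vv_two (z : G) (g l : ℕ → G) : vv z g l 2 = g 1 := vv_two_pow z g l (k := 1) (by norm_num)

variable (s : StJ z π g l ψ)
include s

theorem val_conj {c x : ℕ} (h : inM24 c = true) (hx : x < 2048) :
    valN ψ c * vv z g l x * (valN ψ c)⁻¹ = vv z g l (Split.va c x) := by
  rw [valN_toPerm ψ h, s.t.m.conj_vv _ hx, code_toPerm' h]

theorem fbM_comm {i : ℕ} (hi : i < 2) : valN ψ (fbM i) * g 1 = g 1 * valN ψ (fbM i) := by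
  rw [← mul_inv_eq_iff_eq_mul, ← vv_two z g l, val_conj s (fbM_ok i hi).1 (by norm_num), (fbM_ok i hi).2]

/-- The duads are conjugate under `M₂₄`. -/
theorem duad_conj {x y : ℕ} (hx : x < 2048) (hy : y < 2048) (h1 : dua x = true) (h2 : dua y = true) :
    ∃ m : M24, ψ m * vv z g l x * (ψ m)⁻¹ = vv z g l y := by
  obtain ⟨a, ha, rfl⟩ := (dua_iff hx).1 h1
  obtain ⟨b, hb, rfl⟩ := (dua_iff hy).1 h2
  obtain ⟨m, e⟩ := s.t.m.zs.exists_conj (ha.trans hb.symm) (Or.inl ha)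
  exact ⟨m, e.symm⟩

theorem fB_orb : ∀ v ∈ VG z g l, v ≠ 1 → ∃ m ∈ ψ.range, m * v * m⁻¹ = z ∨ m * v * m⁻¹ = g 1 := fun v hv h1 => by
  obtain ⟨y, h | h⟩ := s.t.m.top_conj_V hv h1
  · exact ⟨_, ⟨y, rfl⟩, Or.inl h⟩
  · obtain ⟨m, e⟩ := duad_conj s (x := 64) (y := 2) (by norm_num) (by norm_num) (by decide +kernel) (by decide +kernel)
    refine ⟨_, ⟨m * y, rfl⟩, Or.inr ?_⟩
    rw [← vv_two z g l, ← e, top_vv_64, ← h, map_mul]
    group

theorem fB_subd : ∀ S ≤ VG z g l, (∀ m ∈ ψ.range, m * g 1 = g 1 * m → ∀ a ∈ S, m * a * m⁻¹ ∈ S) →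
    S = ⊥ ∨ g 1 ∈ S := fun S hS h => by
  have key : ∀ r, ∀ x < 2048, fbT x / 4 = r → x ≠ 0 → vv z g l x ∈ S → g 1 ∈ S := fun r => by
    induction r using Nat.strong_induction_on with
    | _ r ih =>
      intro x hx e h0 hm
      rcases fbS_ok x hx with k | rfl | ⟨k1, k2⟩
      · exact absurd k h0
      · exact vv_two z g l ▸ hm
      have h2 : fbT x % 2 < 2 := Nat.mod_lt _ (by norm_num)
      have h3 := h _ (val_mem ψ _) (fbM_comm s h2) _ hm
      rw [val_conj s (fbM_ok _ h2).1 hx] at h3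
      have h4 : fbS x = (fbT x / 2 % 2 * x) ^^^ Split.va (fbM (fbT x % 2)) x := rfl
      rcases Nat.mod_two_eq_zero_or_one (fbT x / 2) with k | k <;> rw [k] at h4
      · rw [zero_mul, Nat.zero_xor] at h4
        exact ih _ (e ▸ k2) _ (h4 ▸ Split.va_lt _ _) rfl k1 (h4 ▸ h3)
      · rw [one_mul] at h4
        exact ih _ (e ▸ k2) _ (h4 ▸ Split.xor_lt hx (Split.va_lt _ _)) rfl k1
          (by rw [h4, s.t.m.o.x.vv_xor]; exact mul_mem hm h3)
  refine or_iff_not_imp_left.2 fun k => ?_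
  obtain ⟨⟨a, ha⟩, h1⟩ := (ne_bot_iff_exists_ne_one.1 k)
  obtain ⟨x, hx, rfl⟩ := s.t.m.o.x.mem_VG.1 (hS ha)
  exact key _ x hx rfl (fun e => h1 (Subtype.ext ((s.t.m.o.x.vv_eq_one hx).2 e))) ha

theorem fB_irr : ∀ S ≤ VG z g l, (∀ m ∈ ψ.range, ∀ a ∈ S, m * a * m⁻¹ ∈ S) → S = ⊥ ∨ S = VG z g l := fun S hS h => by
  refine (fB_subd s S hS fun m hm _ => h m hm).imp_right fun k => le_antisymm hS ?_
  have h1 : vv z g l 1026 ∈ S := by
    obtain ⟨m, e⟩ := duad_conj s (x := 2) (y := 1026) (by norm_num) (by norm_num) (by decide +kernel) (by decide +kernel)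
    exact e ▸ h _ ⟨m, rfl⟩ _ (vv_two z g l ▸ k)
  have h2 : z ∈ S := by
    rw [← s.t.m.o.x.vv_z, show 1024 = 2 ^^^ 1026 by decide, s.t.m.o.x.vv_xor, vv_two]
    exact mul_mem k h1
  intro a ha
  obtain ⟨x, hx, rfl⟩ := s.t.m.o.x.mem_VG.1 ha
  exact s.t.m.Z_rep hx ▸ s.t.m.zs.Z_mem (fun y => h _ ⟨y, rfl⟩) h2 _

theorem fB_sqz : ∀ w ∈ VG z g l, (∀ m ∈ ψ.range, m * z = z * m → m * w * m⁻¹ = w ∨ m * w * m⁻¹ = w * z) →
    w = 1 ∨ w = z := fun w hw h => by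
  have x := s.t.m.o.x
  obtain ⟨a, ha, rfl⟩ := x.mem_VG.1 hw
  have key : ∀ c, inM24 c = true → valN ψ c * z = z * valN ψ c → Split.va c a = a ∨ Split.va c a = a ^^^ 1024 :=
    fun c h1 h2 => by
    have h3 := h _ (val_mem ψ c) h2
    rw [val_conj s h1 ha, ← x.vv_xor_z] at h3
    exact h3.imp (x.vv_inj (Split.va_lt _ _) ha) (x.vv_inj (Split.va_lt _ _) (Split.xor_lt ha (by norm_num)))
  refine (fb_sqz a ha ?_).imp (x.vv_eq_one ha).2 fun e => by rw [e, x.vv_z]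
  simp only [List.mem_cons, List.not_mem_nil, or_false, forall_eq_or_imp, forall_eq]
  exact ⟨key _ (Split.sL_ok 0 (by norm_num)) (s.t.m.sl 0 (by norm_num) ▸ (x.rp 0 (by norm_num)).1),
    key _ (Split.sL_ok 1 (by norm_num)) (s.t.m.sl 1 (by norm_num) ▸ (x.rp 1 (by norm_num)).1),
    key _ (Split.beL_ok 2 (by norm_num)) (s.t.m.be 2 (by norm_num) ▸ (x.q.z_comm _ (by norm_num)).symm)⟩

theorem fB_sqd : ∀ w ∈ VG z g l, (∀ m ∈ ψ.range, m * g 1 = g 1 * m → m * w * m⁻¹ = w ∨ m * w * m⁻¹ = w * g 1) →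
    w = 1 ∨ w = g 1 := fun w hw h => by
  have x := s.t.m.o.x
  obtain ⟨a, ha, rfl⟩ := x.mem_VG.1 hw
  refine (fb_sqd a ha fun i hi => ?_).imp (x.vv_eq_one ha).2 fun e => by rw [e, vv_two]
  have h3 := h _ (val_mem ψ _) (fbM_comm s hi)
  rw [val_conj s (fbM_ok i hi).1 ha, ← vv_two z g l, ← x.vv_xor] at h3
  exact h3.imp (x.vv_inj (Split.va_lt _ _) ha) (x.vv_inj (Split.va_lt _ _) (Split.xor_lt ha (by norm_num)))

theorem fB_comd : ∀ S : Subgroup G, (∀ m ∈ ψ.range, m * g 1 = g 1 * m → ∀ w ∈ VG z g l, m * w * m⁻¹ * w ∈ S) →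
    VG z g l ≤ S := fun S h => by
  have x := s.t.m.o.x
  have key : ∀ i < 2, ∀ a < 2048, vv z g l (Split.va (fbM i) a ^^^ a) ∈ S := fun i hi a ha => by
    rw [x.vv_xor, ← val_conj s (fbM_ok i hi).1 ha]
    exact h _ (val_mem ψ _) (fbM_comm s hi) _ (s.t.m.vv_mem a)
  refine genLt_le fun k hk => ?_
  obtain ⟨p, -, h1, h2, e⟩ := fb_comd k hk
  rw [← vv_two_pow z g l hk, e, x.vv_xor]
  exact mul_mem (key 0 (by norm_num) _ h1) (key 1 (by norm_num) _ h2)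

end Cfsg.Agent.Wj
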