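import Mathlib
import Cfsg.Agent.Wj.Defs
import Cfsg.Agent.Wj.FB
import Cfsg.Agent.J4T.Mx

/-!
The Sylow 2-subgroup of `J₄`, a four-group that does not act on `(ℤ/4) ^ 11`, and an element of order 23.
-/

set_option autoImplicit false
set_option linter.unusedSectionVars false

namespace Cfsg.Agent.Wj

open Cfsg.Agent.Rec Cfsg.Agent.Inv.Fz Cfsg.Agent.Spor Cfsg.Agent.Spor.MB Cfsg.Agent.Spor.J4C Cfsg.Agent.J4T Subgroup

universe u

/-- The generators of the four-group. -/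
def faC (i : ℕ) : ℕ :=
  List.getD [nat_lit 0xad2f6680ab31268804ec4be2e10d52, nat_lit 0x54c2db38c22ca871dd09645e05c2a4] i idc

/-- The commutator map on codes. -/
noncomputable def faD (c y : ℕ) : ℕ := Split.va c y ^^^ y

theorem faD_lt (c : ℕ) {y : ℕ} (hy : y < 2048) : faD c y < 2048 := Split.xor_lt (Split.va_lt _ _) hy

theorem faC_ok : ∀ i < 2, inM24 (faC i) = true ∧ mul (faC i) (faC i) = idc := by decide +kernel

theorem fa_bits : ∀ y < 2048, xor ((faD (faC 0) y ^^^ faD (faC 1) y).testBit 4)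
      ((faD (faC 0) y ^^^ faD (faC 1) y).testBit 5) = (faD (faC 1) y).testBit 4 ∧
    xor ((faD (faC 1) y).testBit 4) ((faD (faC 1) y).testBit 5) = (faD (faC 0) y).testBit 4 := fun y hy => by
  have h := allRange_zero (len := 2048) (f := fun y => Spor.force (faD (faC 0) y) fun a => Spor.force (faD (faC 1) y)
    fun b => band (xor ((a ^^^ b).testBit 4) ((a ^^^ b).testBit 5) == b.testBit 4)
      (xor (b.testBit 4) (b.testBit 5) == a.testBit 4)) (by decide +kernel) y hy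
  simpa only [Spor.force_eq, band_iff, beq_iff_eq] using h

theorem fa_fix : ∀ y < 2048, Split.va 956302485175575353788796878166559809 y = y → y = 0 := fun y hy k => by
  have h := allRange_zero (len := 2048) (f := fun y => bor (Nat.beq y 0)
    (!Nat.beq (Split.va 956302485175575353788796878166559809 y) y)) (by decide +kernel) y hy
  simpa only [bor_iff, nbeq_iff, Bool.not_eq_true', ← Bool.not_eq_true, k, not_true, or_false] using h

theorem card_cen_conj {G : Type u} [Group G] [Finite G] {V : Subgroup G} {k a : G} (h : ∀ v ∈ V, k * v * k⁻¹ ∈ V) :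
    Nat.card ↥(V ⊓ centralizer {a}) ≤ Nat.card ↥(V ⊓ centralizer {k * a * k⁻¹}) :=
  Nat.card_le_card_of_injective (fun v => ⟨k * v * k⁻¹, h v v.2.1, mem_cen.2 (by
    rw [conj_mul, conj_mul, mem_cen.1 v.2.2])⟩) fun _ _ e =>
      Subtype.ext (mul_left_cancel (mul_right_cancel (congrArg Subtype.val e)))

variable {G : Type u} [Group G] [Finite G] {z : G} {π : centralizer ({z} : Set G) →* PG} {g l : ℕ → G} {ψ : M24 →* G}
  (s : StJ z π g l ψ)
include s

theorem val_sq {c : ℕ} (h : inM24 c = true) (h2 : mul c c = idc) : valN ψ c * valN ψ c = 1 := by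
  rw [← (valN_mul ψ (okN_of h) (okN_of h)).2, h2, valN_one]

theorem val_com {c y : ℕ} (h : inM24 c = true) (h2 : mul c c = idc) (hy : y < 2048) :
    valN ψ c * vv z g l y * valN ψ c * vv z g l y = vv z g l (faD c y) := by
  rw [faD, s.t.m.o.x.vv_xor, ← val_conj s h hy, inv_eq_of_mul_eq_one_right (val_sq s h h2)]

theorem card_fix {c : ℕ} (h : inM24 c = true) : Nat.card ↥(VG z g l ⊓ centralizer {valN ψ c}) =
    count2 2048 fun x => Nat.beq (Split.va c x) x := by
  rw [← s.t.m.o.x.ncard_V (P := fun y => y ∈ centralizer {valN ψ c}) fun d hd => by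
    rw [mem_cen, eq_comm, ← mul_inv_eq_iff_eq_mul, val_conj s h hd, nbeq_iff]
    exact ⟨s.t.m.o.x.vv_inj (Split.va_lt _ _) hd, fun e => by rw [e]⟩]
  exact Nat.card_coe_set_eq _

theorem card_fix_le {y : M24} (h2 : y * y = 1) (h1 : y ≠ 1) : Nat.card ↥(VG z g l ⊓ centralizer {ψ y}) ≤ 128 := by
  have key : ∀ c : M24, (∃ k ∈ M24, k * c * k⁻¹ = y) → inM24 (code c) = true →
      (count2 2048 fun x => Nat.beq (Split.va (code c) x) x) ≤ 128 →
      Nat.card ↥(VG z g l ⊓ centralizer {ψ y}) ≤ 128 := by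
    rintro c ⟨k, hk, e⟩ h3 h4
    rw [← card_fix s h3, valN_coe] at h4
    refine (card_cen_conj (k := ψ (⟨k, hk⟩ : M24)⁻¹) fun v hv =>
      (mem_normalizer_iff.1 (s.t.m.psi_mem _) v).1 hv).trans (le_of_eq_of_le ?_ h4)
    rw [show y = ⟨k, hk⟩ * c * (⟨k, hk⟩ : M24)⁻¹ from Subtype.ext e.symm]
    simp only [map_mul, map_inv, mul_assoc, inv_inv, inv_mul_cancel, mul_one, inv_mul_cancel_left]
  rcases involution_classes y.2 (orderOf_eq_prime (by rw [sq]; exact congrArg Subtype.val h2)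
    fun e => h1 (Subtype.ext e)) with h | h
  · exact key ⟨zA, zA_mem⟩ h (by rw [code_zA]; decide +kernel) (by rw [code_zA]; decide +kernel)
  · exact key ⟨zB, zB_mem⟩ h (by rw [code_zB]; decide +kernel) (by rw [code_zB]; decide +kernel)

theorem card_cen_le (n : ℕ) : ∀ a ∈ normalizer (VG z g l : Set G), a ^ 2 ^ n = 1 → a ∉ VG z g l →
    Nat.card ↥(VG z g l ⊓ centralizer {a}) ≤ 128 := by
  induction n with
  | zero => exact fun a _ h k => absurd (by simp_all) k
  | succ n ih =>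
    intro a ha h k
    by_cases h2 : a * a ∈ VG z g l
    · obtain ⟨b, hb, y, rfl⟩ := s.t.m.mem_N.1 ha
      rw [s.t.m.mul_N _ _ hb, mul_mem_cancel_left (s.t.m.vv_mem _)] at h2
      refine (card_le_of_le ?_).trans (card_fix_le s (s.t.m.inj _ h2) (by
        rintro rfl
        exact k (by rw [map_one, mul_one]; exact s.t.m.vv_mem b)))
      rintro v ⟨h3, h4⟩
      obtain ⟨c, hc, rfl⟩ := s.t.m.o.x.mem_VG.1 h3
      refine ⟨h3, mem_cen.2 ?_⟩
      rw [s.t.m.psi_vv y hc, (s.t.m.comm_vv_iff b y hc).1 (mem_cen.1 h4).symm]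
    · refine (card_le_of_le ?_).trans (ih _ (mul_mem ha ha) (by rw [← sq, ← pow_mul, ← pow_succ', h]) h2)
      exact fun v hv => ⟨hv.1, mem_cen.2 (Commute.mul_right (mem_cen.1 hv.2) (mem_cen.1 hv.2))⟩

theorem fA_sd : Sd (TG g l) (VG z g l) z (g 1) (g 6) := by
  have x := s.t.m.o.x
  have hQ : ∀ k < 12, g k ∈ TG g l := fun k hk => mem_sup_left (mem_genLt g hk)
  have h6 : g 6 = valN ψ (beL 0) := s.t.m.be 0 (by norm_num)
  have hb := Split.beL_ok 0 (by norm_num)
  have hc : ∀ y < 2048, g 6 * vv z g l y * g 6 * vv z g l y = vv z g l (faD (beL 0) y) := fun y hy => by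
    rw [h6, val_com s hb (by decide +kernel) hy]
  have hsq : ∀ v ∈ VG z g l, v * v = 1 := fun v hv => by
    obtain ⟨a, -, rfl⟩ := x.mem_VG.1 hv
    exact s.t.m.vv_sq a
  have hz : g 6 * vv z g l 1 * g 6 * vv z g l 1 = z := by
    rw [hc 1 (by norm_num), show faD (beL 0) 1 = 1024 by decide +kernel, x.vv_z]
  refine ⟨x.card_T, x.card_V, x.V_le_T, fun a ha v hv => (mem_normalizer_iff.1 (x.T_le_A ha).2 v).1 hv, hsq,
    fun F hF h => x.eq_V hF ⟨⟨⟨fun a b => Subtype.ext (comm_of_sq h a.2 b.2)⟩⟩, fun a ha => by rw [sq, h a ha]⟩,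
    fun a ha => ?_, x.q.z_ne, vv_two z g l ▸ s.t.m.vv_ne_one (by norm_num) (by norm_num),
    fun a ha => mem_cen.1 (x.T_le_A ha).1, fun a ha h => x.st.eq_one_or_of_comm x.q (mem_cen.1 (x.T_le_A ha).1)
      fun k hk => h _ (hQ k hk), hQ 6 (by norm_num), fun h => x.q.z_ne ?_, x.q.sq 6 (by norm_num), ?_,
    ⟨_, s.t.m.vv_mem 1, hz⟩, ⟨_, s.t.m.vv_mem 449, ?_⟩, ?_⟩
  · obtain ⟨n, hn⟩ := IsPGroup.of_card (p := 2) x.card_T ⟨a, ha⟩
    exact card_cen_le s n a (x.T_le_A ha).2 (congrArg Subtype.val hn)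
  · rw [← hz, mul_assoc]
    exact hsq _ (mul_mem h (s.t.m.vv_mem 1))
  · rw [h6, card_fix s hb]
    decide +kernel
  · rw [hc 449 (by norm_num), show faD (beL 0) 449 = 2 by decide +kernel, vv_two]
  · have hl : ∀ a ∈ ({l 1, l 5, evalW l [2, 1, 3, 2], l 6, l 7, l 8, l 9} : Set G), a * a = 1 := by
      have h1 : ∀ i < 6, mul (sL i) (sL i) = idc → l i * l i = 1 := fun i hi h => by
        rw [s.t.m.sl i hi, val_sq s (Split.sL_ok i hi) h]
      have h2 : evalW l [2, 1, 3, 2] = valN ψ (evC sL [2, 1, 3, 2]) := by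
        rw [(Split.valN_evC ψ Split.sL_ok (by decide +kernel)).2]
        exact J4C.evalW_congr s.t.m.sl (by decide +kernel)
      simp only [Set.mem_insert_iff, Set.mem_singleton_iff, forall_eq_or_imp, forall_eq]
      exact ⟨h1 1 (by norm_num) (by decide +kernel), h1 5 (by norm_num) (by decide +kernel),
        h2 ▸ val_sq s (by decide +kernel) (by decide +kernel), x.vg_sq (i := 6) (by norm_num),
        x.vg_sq (i := 7) (by norm_num), x.vg_sq (i := 8) (by norm_num), x.vg_sq (i := 9) (by norm_num)⟩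
    exact sup_le (genLt_le fun k hk => subset_closure ⟨hQ k hk, x.q.sq k hk⟩)
      (closure_mono fun a ha => ⟨mem_sup_right (subset_closure ha), hl a ha⟩)

theorem fA_four : ∃ a ∈ ψ.range, ∃ b ∈ ψ.range, a * a = 1 ∧ b * b = 1 ∧ a * b = b * a ∧
    ∃ v ∈ VG z g l, ∃ w ∈ VG z g l,
    a * w * a * w = b * v * b * v ∧ a * v * a * v * (a * w * a * w) = b * w * b * w ∧ ∀ p ∈ VG z g l, ∀ q ∈ VG z g l,
      a * p * a * p * (b * p * b * p) * (b * q * b * q) = b * w * b * w →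
      b * p * b * p * (a * q * a * q) ≠ b * v * b * v * (b * w * b * w) := by
  have x := s.t.m.o.x
  obtain ⟨a1, a2⟩ := faC_ok 0 (by norm_num)
  obtain ⟨b1, b2⟩ := faC_ok 1 (by norm_num)
  have hv : 128 < 2048 := by norm_num
  have hw : 512 < 2048 := by norm_num
  refine ⟨_, val_mem ψ (faC 0), _, val_mem ψ (faC 1), val_sq s a1 a2, val_sq s b1 b2, ?_, _, s.t.m.vv_mem 128, _,
    s.t.m.vv_mem 512, ?_, ?_, fun p hp' q hq' e1 e2 => ?_⟩
  · rw [← (valN_mul ψ (okN_of a1) (okN_of b1)).2, ← (valN_mul ψ (okN_of b1) (okN_of a1)).2]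
    exact congrArg _ (by decide +kernel)
  · rw [val_com s a1 a2 hw, val_com s b1 b2 hv]
    exact congrArg _ (by decide +kernel)
  · rw [val_com s a1 a2 hw, val_com s a1 a2 hv, val_com s b1 b2 hw, ← x.vv_xor]
    exact congrArg _ (by decide +kernel)
  obtain ⟨p, hp, rfl⟩ := x.mem_VG.1 hp'
  obtain ⟨q, hq, rfl⟩ := x.mem_VG.1 hq'
  rw [val_com s a1 a2 hp, val_com s b1 b2 hp, val_com s b1 b2 hq, val_com s b1 b2 hw, ← x.vv_xor, ← x.vv_xor] at e1
  rw [val_com s b1 b2 hp, val_com s a1 a2 hq, val_com s b1 b2 hv, val_com s b1 b2 hw, ← x.vv_xor, ← x.vv_xor] at e2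
  replace e1 := x.vv_inj (Split.xor_lt (Split.xor_lt (faD_lt _ hp) (faD_lt _ hp)) (faD_lt _ hq)) (faD_lt _ hw) e1
  replace e2 := x.vv_inj (Split.xor_lt (faD_lt _ hp) (faD_lt _ hq)) (Split.xor_lt (faD_lt _ hv) (faD_lt _ hw)) e2
  have h1 := congrArg (Nat.testBit · 4) e1
  have h2 := congrArg (Nat.testBit · 5) e1
  have h3 := congrArg (Nat.testBit · 4) e2
  have h4 := (fa_bits p hp).1
  have h5 := (fa_bits q hq).2
  have h6 : xor ((faD (faC 1) 512).testBit 4) ((faD (faC 1) 512).testBit 5) ≠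
    (faD (faC 1) 128 ^^^ faD (faC 1) 512).testBit 4 := by decide +kernel
  beta_reduce at h1 h2 h3
  rw [← h1, ← h2, ← h3, Nat.testBit_xor _ (faD _ q), Nat.testBit_xor _ (faD _ q), Nat.testBit_xor _ (faD _ q), ← h4,
    ← h5] at h6
  exact h6 (by simp only [Bool.xor_assoc, Bool.xor_left_comm])

theorem fA_f23 : ∃ f ∈ ψ.range, ∃ k ∈ ψ.range, orderOf f = 23 ∧ k * f * k⁻¹ = f * f ∧
    ∀ v ∈ VG z g l, f * v = v * f → v = 1 := by
  have x := s.t.m.o.x
  have hf : inM24 956302485175575353788796878166559809 = true := by decide +kernel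
  have hk : inM24 0xbd6717b56939461b52507314831040 = true := by decide +kernel
  refine ⟨_, val_mem ψ 956302485175575353788796878166559809, _, val_mem ψ 0xbd6717b56939461b52507314831040, ?_, ?_,
    fun v hv e => ?_⟩
  · rw [← code_x23, valN_coe ψ ⟨x23, x23_mem⟩, orderOf_injective ψ ((injective_iff_map_eq_one ψ).2 fun y e =>
      s.t.m.inj y (e ▸ one_mem _)), ← orderOf_x23]
    exact (orderOf_injective M24.subtype M24.subtype_injective _).symm
  · obtain ⟨h1, h2⟩ := valN_mul ψ (okN_of hf) (okN_of hf)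
    rw [mul_inv_eq_iff_eq_mul, ← h2, ← (valN_mul ψ h1 (okN_of hk)).2, ← (valN_mul ψ (okN_of hk) (okN_of hf)).2]
    exact congrArg _ (by decide +kernel)
  · obtain ⟨a, ha, rfl⟩ := x.mem_VG.1 hv
    rw [← mul_inv_eq_iff_eq_mul, val_conj s hf ha] at e
    exact (x.vv_eq_one ha).2 (fa_fix a ha (x.vv_inj (Split.va_lt _ _) ha e))

end Cfsg.Agent.Wj
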