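import Mathlib
import Cfsg.Agent.Wj.Defs
import Cfsg.Agent.J4T.Mx

/-!
The duads of the even cocode determine `M₂₄`.
-/

set_option autoImplicit false

namespace Cfsg.Agent.Wj

open Cfsg.Agent.Rec Cfsg.Agent.Inv.Fz Cfsg.Agent.Spor Cfsg.Agent.Spor.MB Cfsg.Agent.Spor.J4C Cfsg.Agent.J4T Subgroup
open scoped Pointwise

universe u

variable {G : Type u} [Group G] [Finite G] {z : G} {π : centralizer ({z} : Set G) →* PG} {g l : ℕ → G} {ψ : M24 →* G}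
  (s : StJ z π g l ψ)
include s

theorem fC_mem {v : G} : (∃ m ∈ ψ.range, m * g 1 * m⁻¹ = v) ↔ ∃ u : Finset GolayPt, u.card = 2 ∧ ZG z g l u = v := by
  obtain ⟨u, hu, e⟩ := (dua_iff (x := 2) (by norm_num)).1 (by decide +kernel)
  have h : ZG z g l u = g 1 := by rw [ZG, e]; exact vv_two_pow z g l (k := 1) (by norm_num)
  refine ⟨?_, ?_⟩
  · rintro ⟨_, ⟨y, rfl⟩, rfl⟩
    exact ⟨(y : PG) • u, by rw [Finset.card_smul_finset, hu], by rw [← h, s.t.m.top_psi_conj y (by rw [hu]; decide)]⟩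
  · rintro ⟨w, hw, rfl⟩
    obtain ⟨y, hy⟩ := s.t.m.zs.exists_conj (hu.trans hw.symm) (Or.inl hu)
    exact ⟨_, ⟨y, rfl⟩, by rw [hy, h]⟩

theorem fC_dua {x : ℕ} (hx : x < 2048) : (∃ m ∈ ψ.range, m * g 1 * m⁻¹ = vv z g l x) ↔ dua x = true := by
  rw [fC_mem s, dua_iff hx]
  exact exists_congr fun u => and_congr_right fun _ => ⟨s.t.m.o.x.vv_inj (lam_lt _) hx, congrArg _⟩

theorem fC_duad : {v | ∃ m ∈ ψ.range, m * g 1 * m⁻¹ = v}.ncard = 276 := by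
  rw [← show count2 2048 dua = 276 by decide +kernel, ← s.t.m.o.x.ncard_V
    (P := fun v => ∃ m ∈ ψ.range, m * g 1 * m⁻¹ = v) fun d hd => fC_dua s hd]
  refine congrArg _ (Set.ext fun v => (and_iff_right_of_imp fun h => ?_).symm)
  obtain ⟨u, -, rfl⟩ := (fC_mem s).1 h
  exact s.t.m.vv_mem _

theorem fC_whit : ∀ f : G → G, PH (VG z g l) f → (∀ v ∈ VG z g l, f v ∈ VG z g l) →
    (∀ m ∈ ψ.range, ∃ m' ∈ ψ.range, f (m * g 1 * m⁻¹) = m' * g 1 * m'⁻¹) →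
    ∃ m ∈ ψ.range, ∀ v ∈ VG z g l, f v = m * v * m⁻¹ := by
  intro f hf _ h0
  have o := s.t.m.o
  have hZ : ∀ a, ZG z g l a ∈ VG z g l := fun a => s.t.m.vv_mem _
  have h2 : ∀ {v}, (∃ m ∈ ψ.range, m * g 1 * m⁻¹ = v) → ∃ m ∈ ψ.range, m * g 1 * m⁻¹ = f v := by
    rintro _ ⟨m, hm, rfl⟩
    exact (h0 m hm).imp fun _ k => ⟨k.1, k.2.symm⟩
  have h1 : ∀ a : Finset GolayPt, ∃ u : Finset GolayPt, a.card = 2 → u.card = 2 ∧ ZG z g l u = f (ZG z g l a) :=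
    fun a => if ha : a.card = 2 then ((fC_mem s).1 (h2 ((fC_mem s).2 ⟨a, ha, rfl⟩))).imp fun _ k _ => k
      else ⟨∅, fun h => absurd h ha⟩
  choose F hF using h1
  obtain ⟨τ, hτ⟩ := exists_perm_of_duads (f := F) (fun a ha => (hF a ha).1) (fun a b ha hb e => duad_inj ha hb (o.Z_inj
    ((hf.eq_iff (hZ a) (hZ b)).1 ((hF a ha).2.symm.trans (e ▸ (hF b hb).2))))) fun a b ha hb e => by
      have k := h2 ((fC_dua s (Nat.xor_lt_two_pow (n := 11) (lam_lt _) (lam_lt _))).2 ((dua_xor_iff ha hb).2 e))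
      rw [o.x.vv_xor, ← ZG, ← ZG, hf.mul _ (hZ a) _ (hZ b), ← (hF a ha).2, ← (hF b hb).2, ZG, ZG, ← o.x.vv_xor] at k
      exact (dua_xor_iff (hF a ha).1 (hF b hb).1).1
        ((fC_dua s (Nat.xor_lt_two_pow (n := 11) (lam_lt _) (lam_lt _))).1 k)
  have h3 : ∀ a : Finset GolayPt, Even a.card → f (ZG z g l a) = ZG z g l (τ • a) := fun a ha => by
    induction h : a.card using Nat.strong_induction_on generalizing a with
    | _ k ih =>
    rcases Nat.lt_or_ge a.card 2 with h2 | h2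
    · obtain rfl : a = ∅ := Finset.card_eq_zero.1 (by obtain ⟨r, hr⟩ := ha; omega)
      rw [Finset.smul_finset_empty, ZG, mask_empty, show lam 0 = 0 by decide +kernel, o.x.vv_zero, hf.one]
    obtain ⟨u, hu, h3⟩ := Finset.exists_subset_card_eq h2
    have h4 := Finset.card_sdiff_add_card_eq_card hu
    have e : a = symmDiff u (a \ u) := by
      ext p
      have := @hu p
      simp only [Finset.mem_symmDiff, Finset.mem_sdiff]; tauto
    rw [e, smul_symmDiff, o.Z_symmDiff, o.Z_symmDiff, hf.mul _ (hZ _) _ (hZ _), ← (hF u h3).2, hτ u h3,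
      ih _ (by omega) (a \ u) (by obtain ⟨r, hr⟩ := ha; exact ⟨r - 1, by omega⟩) rfl]
  have h4 : τ ∈ M24 := mem_M24_iff.2 fun u hu => by
    have h1 : Even u.card := by rcases card_cases hu with e | e | e | e | e <;> rw [e] <;> decide
    have h2 := h3 u h1
    rw [ZG, (lam_eq_zero_iff h1).2 hu, o.x.vv_zero, hf.one] at h2
    exact (lam_eq_zero_iff (by rwa [Finset.card_smul_finset])).1 ((o.x.vv_eq_one (lam_lt _)).1 h2.symm)
  refine ⟨_, ⟨⟨τ, h4⟩, rfl⟩, fun v hv => ?_⟩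
  obtain ⟨x, hx, rfl⟩ := o.x.mem_VG.1 hv
  obtain ⟨u, hu, -, rfl⟩ := exists_lam hx
  exact (h3 u hu).trans (s.t.m.top_psi_conj ⟨τ, h4⟩ hu).symm

theorem fC_inj : Function.Injective ψ :=
  (injective_iff_map_eq_one ψ).2 fun y h => s.t.m.inj y (h ▸ one_mem _)

theorem fC_dec : ∀ a : G, (∀ v ∈ VG z g l, a * v * a⁻¹ ∈ VG z g l) → ∃ v ∈ VG z g l, ∃ m ∈ ψ.range, a = v * m :=
  fun _ h => (s.t.m.mem_N.1 (mem_normalizer_of_conj_mem h)).elim fun x ⟨_, y, e⟩ => ⟨_, s.t.m.vv_mem x, _, ⟨y, rfl⟩, e⟩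

theorem fC_nM : ∀ m ∈ ψ.range, ∀ v ∈ VG z g l, m * v * m⁻¹ ∈ VG z g l := by
  rintro _ ⟨y, rfl⟩ v hv
  exact (mem_normalizer_iff.1 (s.t.m.psi_mem y) v).1 hv

theorem fC_l6 : ∃ m ∈ ψ.range, m * l 6 * m⁻¹ = g 1 := by
  obtain ⟨m, hm, e⟩ := (fC_dua s (x := 64) (by norm_num)).2 (by decide +kernel)
  exact ⟨m⁻¹, inv_mem hm, by rw [← top_vv_64 z g l, ← e]; group⟩

theorem fC_cls : ∀ a : G, a * a = 1 → a ≠ 1 → ∃ c : G, c * a * c⁻¹ = z ∨ c * a * c⁻¹ = g 1 := fun a h1 h2 => by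
  obtain ⟨m, -, e⟩ := fC_l6 s
  rcases s.cls a h1 h2 with h | h
  · exact (isConj_iff.1 h.symm).imp fun _ => Or.inl
  · exact (isConj_iff.1 (h.symm.trans (isConj_iff.2 ⟨m, e⟩))).imp fun _ => Or.inr

theorem fC_cd : ∀ a : G, a * g 1 = g 1 * a → ∀ v ∈ VG z g l, a * v * a⁻¹ ∈ VG z g l := fun a h v =>
  (mem_normalizer_iff.1 (s.cd 2 (by norm_num) (by decide +kernel)
    (mem_cen.2 (by rwa [show vv z g l 2 = g 1 from vv_two_pow z g l (k := 1) (by norm_num)]))) v).1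

end Cfsg.Agent.Wj
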