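import Mathlib
import Cfsg.Agent.Wj.FC

/-!
The extraspecial subgroup of the centraliser of the central involution of `J₄`.
-/

set_option autoImplicit false

namespace Cfsg.Agent.Wj

open Cfsg.Agent.Rec Cfsg.Agent.Inv.Fz Cfsg.Agent.Spor Cfsg.Agent.Spor.MB Cfsg.Agent.Spor.J4C Cfsg.Agent.J4T Subgroup

universe u

variable {G : Type u} [Group G] [Finite G] {z : G} {π : centralizer ({z} : Set G) →* PG} {g l : ℕ → G} {ψ : M24 →* G}
  (s : StJ z π g l ψ)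
include s

theorem fD_top : ∀ S : Subgroup G, ψ.range ≤ S → (∀ a : G, a * z = z * a → a ∈ S) → ⊤ ≤ S := fun _ h1 h2 =>
  s.top ▸ sup_le h1 (zpowers_le.2 (h2 _ (s.t.m.o.x.rp 10 (by norm_num)).1))

theorem fD_cQ : ∀ h : G, (∀ q ∈ QG g, h * q = q * h) → h = 1 ∨ h = z := fun h k =>
  s.t.m.o.x.st.es.center h (s.t.m.o.x.st.cQ h (k z s.t.m.o.x.q.z_mem) k) k

theorem fD_comQ : ∀ q ∈ QG g, ∀ r ∈ QG g, q * r * q⁻¹ = r ∨ q * r * q⁻¹ = r * z := fun q hq r hr =>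
  (s.t.m.o.x.st.es.comm q hq r hr).imp mul_inv_eq_iff_eq_mul.2 fun e => by
    rw [e, ← mul_assoc, mul_inv_cancel_right, s.t.m.o.x.st.es.z_comm r hr]

theorem fD_sqQ : ∀ q ∈ QG g, q * q = 1 ∨ q * q = z := fun q hq => by
  have e := s.t.m.o.x.st.es
  refine e.center _ (mul_mem hq hq) fun r hr => ?_
  rcases e.comm q hq r hr with h | h
  · rw [mul_assoc, h, ← mul_assoc, h, mul_assoc]
  · rw [mul_assoc, h, ← mul_assoc, ← e.z_comm q hq, mul_assoc, ← mul_assoc q, h, ← mul_assoc, ← mul_assoc, e.z_sq, one_mul,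
      mul_assoc]

theorem fD_p3 : ∃ p : G, p * z = z * p ∧
    (∀ h : G, h * z = z * h → ∀ v ∈ VG z g l, h * p * h⁻¹ * v * (h * p * h⁻¹)⁻¹ ∈ VG z g l) ∧
    ∀ q ∈ QG g, q * (p * q * p⁻¹) * (p⁻¹ * q * p) = 1 ∨ q * (p * q * p⁻¹) * (p⁻¹ * q * p) = z := by
  have x := s.t.m.o.x
  refine ⟨l 0, x.st.pH, fun h hz v => (mem_normalizer_iff.1 ?_ v).1, fun q hq => ?_⟩
  · have h1 := (x.st.ker _).1 (π.normal_ker.conj_mem ⟨l 0, mem_cen.2 x.st.pH⟩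
      ((x.st.ker _).2 (mem_sup_right (mem_zpowers _))) ⟨h, mem_cen.2 hz⟩)
    exact (x.A_eq.ge (sup_le_sup_left (zpowers_le.2 (mem_genLt l (by norm_num))) _ h1)).2
  · obtain ⟨a, ha, rfl⟩ := x.q.mem_QG.1 hq
    have h1 := x.rp 0 (by norm_num)
    have h2 := x.q.rp_app (x.q.rp_inv h1 (x.q.rp_mul h1 h1) (by decide +kernel)) ha
    rw [inv_inv] at h2
    rw [h2, x.q.rp_app h1 ha, ← x.q.qv_mul ha (app_lt _ _), ← x.q.qv_mul (qmul_lt ha (app_lt _ _)) (app_lt _ _)]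
    have h3 := allRange_zero (show allRange 0 8192 (fun a => Spor.force (qmul (qmul a (app (cL 0) a))
      (app (amul (cL 0) (cL 0)) a)) fun b => bor (Nat.beq b 0) (Nat.beq b 4096)) = true by decide +kernel) a ha
    rw [Spor.force_eq, bor_iff, nbeq_iff, nbeq_iff] at h3
    exact h3.imp (fun e => by rw [e, x.q.qv_zero]) fun e => by rw [e, x.q.qv_z]

theorem fD_gH : ∀ S : Subgroup G, (∀ a : G, a * z = z * a → (∀ v ∈ VG z g l, a * v * a⁻¹ ∈ VG z g l) → a ∈ S) →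
    (∀ h : G, h * z = z * h → ∀ a ∈ S, a * z = z * a → h * a * h⁻¹ ∈ S) → ∀ h : G, h * z = z * h → h ∈ S := by
  intro S h1 h2 h hz
  have x := s.t.m.o.x
  have h3 : centralizer {z} ⊓ normalizer (VG z g l : Set G) ≤ S := fun a ha =>
    h1 a (mem_cen.1 ha.1) fun v => (mem_normalizer_iff.1 ha.2 v).1
  obtain ⟨k, hk, h4⟩ := exists_conj_mem_syl (x.syl_T.mono (x.T_le_A.trans inf_le_left) le_top)
    (mem_cen.2 (x.rp 10 (by norm_num)).1) (k := 1) (by rw [pow_one, sq, s.t.tt])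
  have h5 := h2 _ (mem_cen.1 (inv_mem hk)) _ (h3 (x.T_le_A h4)) (mem_cen.1 (x.T_le_A h4).1)
  rw [x.A_eq, sup_le_iff] at h3
  refine (x.gen.le.trans (sup_le h3.1 (genLt_le fun i hi => ?_))) (mem_cen.2 hz)
  rcases Nat.lt_succ_iff_lt_or_eq.1 hi with e | rfl
  · exact h3.2 (mem_genLt l e)
  · simpa [mul_assoc] using h5

theorem fD_inQ : ∀ a ∈ TG g l, a * a = 1 → ∃ m ∈ ψ.range, m * a * m⁻¹ ∈ QG g := fun a ha h => by
  rcases s.t.m.top_conj_N (s.t.m.o.x.T_le_A ha).2 h with k | ⟨y, k⟩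
  · by_cases e : a = 1
    · exact ⟨1, one_mem _, by simp [e]⟩
    obtain ⟨y, k | k⟩ := s.t.m.top_conj_V k e
    · exact ⟨_, ⟨y, rfl⟩, k ▸ s.t.m.o.x.q.z_mem⟩
    · obtain ⟨m, hm, k'⟩ := fC_l6 s
      refine ⟨_, mul_mem hm ⟨y, rfl⟩, ?_⟩
      rw [show m * ψ y * a * (m * ψ y)⁻¹ = m * (ψ y * a * (ψ y)⁻¹) * m⁻¹ by group, k, k']
      exact mem_genLt g (by norm_num)
  · exact ⟨_, ⟨y, rfl⟩, k⟩

end Cfsg.Agent.Wj
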