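import Mathlib
import Cfsg.Agent.Wj.Defs

/-!
Transport of the facts about `J₄` along an injective homomorphism.
-/

set_option autoImplicit false

namespace Cfsg.Agent.Wj

open Cfsg.Agent.Rec Cfsg.Agent.Inv.Fz Cfsg.Agent.Wr Subgroup

universe u v

variable {G : Type u} [Group G] {G' : Type v} [Group G'] {f : G → G'}

namespace PH

variable {L S : Subgroup G} (h : PH L f)
include h

theorem mem (hS : S ≤ L) {a : G} (ha : a ∈ S) : f a ∈ im f S := (h.mem_im hS).2 ⟨a, ha, rfl⟩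

theorem card_cen (hS : S ≤ L) {a : G} (ha : a ∈ L) :
    Nat.card ↥(im f S ⊓ centralizer {f a}) = Nat.card ↥(S ⊓ centralizer {a}) := by
  rw [← h.card_im (inf_le_left.trans hS)]
  congr 3
  ext y
  rw [h.mem_im (inf_le_left.trans hS), mem_inf, h.mem_im hS, mem_cen]
  refine ⟨?_, ?_⟩
  · rintro ⟨⟨b, hb, rfl⟩, e⟩
    exact ⟨b, ⟨hb, mem_cen.2 ((h.comm_iff (hS hb) ha).1 e)⟩, rfl⟩
  · rintro ⟨b, hb, rfl⟩
    exact ⟨⟨b, hb.1, rfl⟩, (h.comm_iff (hS hb.1) ha).2 (mem_cen.1 hb.2)⟩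

theorem c4 {a v : G} (ha : a ∈ L) (hv : v ∈ L) : f a * f v * f a * f v = f (a * v * a * v) := by
  rw [h.mul _ (mul_mem (mul_mem ha hv) ha) _ hv, h.mul _ (mul_mem ha hv) _ ha, h.mul _ ha _ hv]

theorem conj_iff (hS : S ≤ L) {a b : G} (ha : a ∈ L) (hb : b ∈ L) :
    f a * f b * (f a)⁻¹ ∈ im f S ↔ a * b * a⁻¹ ∈ S := by
  rw [← h.conj ha hb, h.apply_mem hS (mul_mem (mul_mem ha hb) (inv_mem ha))]

theorem conj_eq {a b c : G} (ha : a ∈ L) (hb : b ∈ L) (hc : c ∈ L) :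
    f a * f b * (f a)⁻¹ = f c ↔ a * b * a⁻¹ = c := by
  rw [← h.conj ha hb, h.eq_iff (mul_mem (mul_mem ha hb) (inv_mem ha)) hc]

theorem pre_le' (hS : S ≤ L) {D : Subgroup G'} (hD : D ≤ im f S) : h.pre D ≤ S := fun _ k =>
  (h.apply_mem hS (h.mem_pre.1 k).1).1 (hD (h.mem_pre.1 k).2)

theorem eq_im {D : Subgroup G'} (hD : D ≤ im f L) (e : h.pre D = S) : D = im f S := by rw [← e, h.im_pre hD]

theorem eq_bot {D : Subgroup G'} (hD : D ≤ im f L) (e : h.pre D = ⊥) : D = ⊥ := by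
  rw [h.eq_im hD e, eq_bot_iff]
  exact (h.forall_im bot_le).2 fun a ha => by rw [mem_bot.1 ha, h.one]; exact one_mem _

theorem le_of_pre (hS : S ≤ L) {D : Subgroup G'} (e : S ≤ h.pre D) : im f S ≤ D :=
  (h.forall_im hS).2 fun _ ha => (h.mem_pre.1 (e ha)).2

theorem conj_pre {D : Subgroup G'} {a b : G} (ha : a ∈ L) (hb : b ∈ L) (k : f a * f b * (f a)⁻¹ ∈ D) :
    a * b * a⁻¹ ∈ h.pre D := h.mem_pre.2 ⟨mul_mem (mul_mem ha hb) (inv_mem ha), h.conj ha hb ▸ k⟩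

end PH

theorem Sd.im {T V : Subgroup G} {z d x : G} (s : Sd T V z d x) (h : PH T f) :
    Sd (im f T) (im f V) (f z) (f d) (f x) := by
  have zT := s.VT s.zV
  have cm : ∀ {e}, (∃ v ∈ V, x * v * x * v = e) → ∃ v ∈ Wj.im f V, f x * v * f x * v = f e := fun ⟨v, hv, e⟩ =>
    ⟨f v, h.mem s.VT hv, e ▸ h.c4 s.xT (s.VT hv)⟩
  exact
    { cT := (h.card_im le_rfl).trans s.cT
      cV := (h.card_im s.VT).trans s.cV
      VT := im_mono f s.VT
      nV := (h.forall_im le_rfl).2 fun a ha => (h.forall_im s.VT).2 fun v hv =>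
        (h.conj_iff s.VT ha (s.VT hv)).2 (s.nV a ha v hv)
      sq := (h.forall_im s.VT).2 fun v hv => (h.sq_iff (s.VT hv)).2 (s.sq v hv)
      uniq := fun F hF k c => h.eq_im hF (s.uniq _ (h.pre_le F)
        (fun a ha => (h.sq_iff (h.pre_le F ha)).1 (k _ (h.mem_pre.1 ha).2))
        (by rwa [← h.card_im (h.pre_le F), h.im_pre hF]))
      a128 := (h.forall_im le_rfl).2 fun a ha k => h.card_cen s.VT ha ▸ s.a128 a ha fun e => k (h.mem s.VT e)
      z1 := mt (h.eq_one zT).1 s.z1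
      d1 := mt (h.eq_one (s.VT s.dV)).1 s.d1
      zc := (h.forall_im le_rfl).2 fun a ha => (h.comm_iff ha zT).2 (s.zc a ha)
      cz := (h.forall_im le_rfl).2 fun a ha k => (s.cz a ha fun b hb =>
        (h.comm_iff ha hb).1 (k _ (h.mem le_rfl hb))).imp (h.eq_one ha).2 (congrArg f)
      xT := h.mem le_rfl s.xT
      xV := mt (h.apply_mem s.VT s.xT).1 s.xV
      xx := (h.sq_iff s.xT).2 s.xx
      x128 := h.card_cen s.VT s.xT ▸ s.x128
      zx := cm s.zx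
      dx := cm s.dx
      gen := h.le_of_pre le_rfl (s.gen.trans ((closure_le _).2 fun a ha =>
        h.mem_pre.2 ⟨ha.1, subset_closure ⟨h.mem le_rfl ha.1, (h.sq_iff ha.1).2 ha.2⟩⟩)) }

theorem JF.im {L T V Q M : Subgroup G} {z d x : G} (j : JF L T V Q M z d x) (h : PH L f) :
    JF (im f L) (im f T) (im f V) (im f Q) (im f M) (f z) (f d) (f x) := by
  have s := j.toSd.im (h.mono j.TL)
  have zL := j.VL j.zV
  have dL := j.VL j.dV
  have aL := fun {P : G' → Prop} => h.forall_im (S := L) le_rfl (P := P)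
  have aV := fun {P : G' → Prop} => h.forall_im (S := V) j.VL (P := P)
  have aM := fun {P : G' → Prop} => h.forall_im (S := M) j.ML (P := P)
  have aQ := fun {P : G' → Prop} => h.forall_im (S := Q) j.QL (P := P)
  have mL := fun {a : G} => h.mem (S := L) le_rfl (a := a)
  have mV := fun {a : G} => h.mem (S := V) j.VL (a := a)
  have mM := fun {a : G} => h.mem (S := M) j.ML (a := a)
  have mQ := fun {a : G} => h.mem (S := Q) j.QL (a := a)
  have sq : ∀ {e}, e ∈ V → (∀ w ∈ V, (∀ m ∈ M, m * e = e * m → m * w * m⁻¹ = w ∨ m * w * m⁻¹ = w * e) →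
      w = 1 ∨ w = e) → ∀ w ∈ Wj.im f V, (∀ m ∈ Wj.im f M, m * f e = f e * m →
        m * w * m⁻¹ = w ∨ m * w * m⁻¹ = w * f e) → w = 1 ∨ w = f e := fun he k => aV.2 fun w hw k' =>
    (k w hw fun m hm c => (k' _ (mM hm) ((h.comm_iff (j.ML hm) (j.VL he)).2 c)).imp
      (h.conj_eq (j.ML hm) (j.VL hw) (j.VL hw)).1 fun e => (h.conj_eq (j.ML hm) (j.VL hw)
        (j.VL (mul_mem hw he))).1 (h.mul _ (j.VL hw) _ (j.VL he) ▸ e)).imp (h.eq_one (j.VL hw)).2 (congrArg f)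
  have := j.simple
  exact
    { s with
      simple := (h.equiv le_rfl).symm.isSimpleGroup
      syl := ⟨im_mono f j.TL, s.pT, fun P hP k k' => h.eq_im k (j.syl.eq_of_le
        ((h.im_pre k ▸ hP :).of_equiv (h.equiv (h.pre_le P)).symm) (h.pre_le P) fun a ha =>
          h.mem_pre.2 ⟨j.TL ha, k' (h.mem j.TL ha)⟩)⟩
      ML := im_mono f j.ML
      eM := ⟨(h.equiv j.ML).symm.trans j.eM.some⟩
      nM := aM.2 fun m hm => aV.2 fun v hv => (h.conj_iff j.VL (j.ML hm) (j.VL hv)).2 (j.nM m hm v hv)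
      MV := aM.2 fun m hm k => (h.eq_one (j.ML hm)).2 (j.MV m hm ((h.apply_mem j.VL (j.ML hm)).1 k))
      dec := aL.2 fun g hg k => by
        obtain ⟨v, hv, m, hm, rfl⟩ := j.dec g hg fun v hv => (h.conj_iff j.VL hg (j.VL hv)).1 (k _ (mV hv))
        exact ⟨_, mV hv, _, mM hm, h.mul _ (j.VL hv) _ (j.ML hm)⟩
      cenV := aL.2 fun g hg k => mV (j.cenV g hg fun v hv => (h.comm_iff hg (j.VL hv)).1 (k _ (mV hv)))
      cls := aL.2 fun a ha a2 a1 => by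
        obtain ⟨g, hg, e⟩ := j.cls a ha ((h.sq_iff ha).1 a2) (mt (h.eq_one ha).2 a1)
        exact ⟨_, mL hg, e.imp (h.conj_eq hg ha zL).2 (h.conj_eq hg ha dL).2⟩
      cd := aL.2 fun g hg k => aV.2 fun v hv =>
        (h.conj_iff j.VL hg (j.VL hv)).2 (j.cd g hg ((h.comm_iff hg dL).1 k) v hv)
      top := fun S k k' => h.le_of_pre le_rfl (j.top _ (fun m hm => h.mem_pre.2 ⟨j.ML hm, k (mM hm)⟩)
        fun g hg e => h.mem_pre.2 ⟨hg, k' _ (mL hg) ((h.comm_iff hg zL).2 e)⟩)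
      orb := aV.2 fun v hv v1 => by
        obtain ⟨m, hm, e⟩ := j.orb v hv (mt (h.eq_one (j.VL hv)).2 v1)
        exact ⟨_, mM hm, e.imp (h.conj_eq (j.ML hm) (j.VL hv) zL).2 (h.conj_eq (j.ML hm) (j.VL hv) dL).2⟩
      irr := fun S k k' => (j.irr _ (h.pre_le' j.VL k) fun m hm a ha => h.conj_pre (j.ML hm) (h.pre_le S ha)
        (k' _ (mM hm) _ (h.mem_pre.1 ha).2)).imp (h.eq_bot (k.trans (im_mono f j.VL)))
          (h.eq_im (k.trans (im_mono f j.VL)))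
      sqz := sq j.zV j.sqz
      sqd := sq j.dV j.sqd
      subd := fun S k k' => (j.subd _ (h.pre_le' j.VL k) fun m hm e a ha => h.conj_pre (j.ML hm) (h.pre_le S ha)
        (k' _ (mM hm) ((h.comm_iff (j.ML hm) dL).2 e) _ (h.mem_pre.1 ha).2)).imp
          (h.eq_bot (k.trans (im_mono f j.VL))) fun e => (h.mem_pre.1 e).2
      comd := fun S k => h.le_of_pre j.VL (j.comd _ fun m hm e w hw => h.mem_pre.2
        ⟨j.VL (mul_mem (j.nM m hm w hw) hw), by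
          rw [h.mul _ (j.VL (j.nM m hm w hw)) _ (j.VL hw), h.conj (j.ML hm) (j.VL hw)]
          exact k _ (mM hm) ((h.comm_iff (j.ML hm) dL).2 e) _ (mV hw)⟩)
      duad := by
        have inj : Set.InjOn f {v | ∃ m ∈ M, m * d * m⁻¹ = v} := fun a ⟨m, hm, e⟩ b ⟨m', hm', e'⟩ k =>
          (h.eq_iff (e ▸ j.VL (j.nM m hm d j.dV)) (e' ▸ j.VL (j.nM m' hm' d j.dV))).1 k
        rw [← j.duad, ← inj.ncard_image]
        congr 1
        ext y
        refine ⟨fun ⟨_, hm', e⟩ => ?_, ?_⟩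
        · obtain ⟨m, hm, rfl⟩ := (h.mem_im j.ML).1 hm'
          exact ⟨_, ⟨m, hm, rfl⟩, (h.conj (j.ML hm) dL).trans e⟩
        · rintro ⟨_, ⟨m, hm, rfl⟩, rfl⟩
          exact ⟨_, mM hm, (h.conj (j.ML hm) dL).symm⟩
      whit := fun F p k k' => by
        choose! F' h1 h2 using fun v (hv : v ∈ V) => (h.mem_im j.VL).1 (k _ (mV hv))
        obtain ⟨m, hm, e⟩ := j.whit F' ⟨fun a ha b hb => (h.eq_iff (j.VL (h1 _ (mul_mem ha hb)))
          (j.VL (mul_mem (h1 a ha) (h1 b hb)))).1 (by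
            rw [h2 _ (mul_mem ha hb), h.mul _ (j.VL (h1 a ha)) _ (j.VL (h1 b hb)), h2 a ha, h2 b hb,
              h.mul a (j.VL ha) b (j.VL hb), p.mul _ (mV ha) _ (mV hb)]),
          fun a ha e => h.inj a (j.VL ha) (p.inj _ (mV ha) (by rw [← h2 a ha, e, h.one]))⟩ h1 fun m hm => by
            obtain ⟨_, hm'', e⟩ := k' _ (mM hm)
            obtain ⟨m', hm', rfl⟩ := (h.mem_im j.ML).1 hm''
            refine ⟨m', hm', ((h.conj_eq (j.ML hm') dL (j.VL (h1 _ (j.nM m hm d j.dV)))).1 ?_).symm⟩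
            rw [h2 _ (j.nM m hm d j.dV), h.conj (j.ML hm) dL, e]
        exact ⟨_, mM hm, aV.2 fun v hv => by rw [← h2 v hv, e v hv, h.conj (j.ML hm) (j.VL hv)]⟩
      four := by
        obtain ⟨a, ha, b, hb, a2, b2, c, v, hv, w, hw, e1, e2, e3⟩ := j.four
        replace ha := And.intro (j.ML ha) (mM ha)
        replace hb := And.intro (j.ML hb) (mM hb)
        have m : ∀ {a v}, a ∈ L → v ∈ V → a * v * a * v ∈ L := fun ha hv =>
          mul_mem (mul_mem (mul_mem ha (j.VL hv)) ha) (j.VL hv)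
        have c4 : ∀ {a v}, a ∈ L → v ∈ V → f a * f v * f a * f v = f (a * v * a * v) := fun ha hv =>
          h.c4 ha (j.VL hv)
        refine ⟨_, ha.2, _, hb.2, (h.sq_iff ha.1).2 a2, (h.sq_iff hb.1).2 b2, (h.comm_iff ha.1 hb.1).2 c, _, mV hv,
          _, mV hw, by rw [c4 ha.1 hw, c4 hb.1 hv, e1], ?_, aV.2 fun p hp => aV.2 fun q hq k k' => e3 p hp q hq ?_ ?_⟩
        · rw [c4 ha.1 hv, c4 ha.1 hw, c4 hb.1 hw, ← h.mul _ (m ha.1 hv) _ (m ha.1 hw), e2]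
        · rwa [c4 ha.1 hp, c4 hb.1 hp, c4 hb.1 hq, c4 hb.1 hw, ← h.mul _ (m ha.1 hp) _ (m hb.1 hp),
            ← h.mul _ (mul_mem (m ha.1 hp) (m hb.1 hp)) _ (m hb.1 hq),
            h.eq_iff (mul_mem (mul_mem (m ha.1 hp) (m hb.1 hp)) (m hb.1 hq)) (m hb.1 hw)] at k
        · rwa [c4 hb.1 hp, c4 ha.1 hq, c4 hb.1 hv, c4 hb.1 hw, ← h.mul _ (m hb.1 hp) _ (m ha.1 hq),
            ← h.mul _ (m hb.1 hv) _ (m hb.1 hw),
            h.eq_iff (mul_mem (m hb.1 hp) (m ha.1 hq)) (mul_mem (m hb.1 hv) (m hb.1 hw))] at k'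
      f23 := by
        obtain ⟨a, ha, k, hk, e1, e2, e3⟩ := j.f23
        exact ⟨_, mM ha, _, mM hk, (orderOf_injective h.hom h.hom_inj ⟨a, j.ML ha⟩).trans
          ((orderOf_coe _).symm.trans e1), by rw [← h.conj (j.ML hk) (j.ML ha), e2, h.mul _ (j.ML ha) _ (j.ML ha)],
          aV.2 fun v hv c => (h.eq_one (j.VL hv)).2 (e3 v hv ((h.comm_iff (j.ML ha) (j.VL hv)).1 c))⟩
      QT := im_mono f j.QT
      zQ := mQ j.zQ
      dQ := mQ j.dQ
      nQ := aL.2 fun g hg k => aQ.2 fun q hq =>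
        (h.conj_iff j.QL hg (j.QL hq)).2 (j.nQ g hg ((h.comm_iff hg zL).1 k) q hq)
      cQ := aL.2 fun g hg k => (j.cQ g hg fun q hq => (h.comm_iff hg (j.QL hq)).1 (k _ (mQ hq))).imp
        (h.eq_one hg).2 (congrArg f)
      comQ := aQ.2 fun q hq => aQ.2 fun r hr => (j.comQ q hq r hr).imp (h.conj_eq (j.QL hq) (j.QL hr) (j.QL hr)).2
        fun e => by rw [← h.conj (j.QL hq) (j.QL hr), e, h.mul _ (j.QL hr) _ zL]
      sqQ := aQ.2 fun q hq => (j.sqQ q hq).imp (h.sq_iff (j.QL hq)).2 fun e => by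
        rw [← h.mul _ (j.QL hq) _ (j.QL hq), e]
      p3 := by
        obtain ⟨p, hp, e1, e2, e3⟩ := j.p3
        refine ⟨_, mL hp, (h.comm_iff hp zL).2 e1, aL.2 fun g hg k => aV.2 fun v hv => ?_, aQ.2 fun q hq => ?_⟩
        · rw [← h.conj hg hp]
          exact (h.conj_iff j.VL (mul_mem (mul_mem hg hp) (inv_mem hg)) (j.VL hv)).2
            (e2 g hg ((h.comm_iff hg zL).1 k) v hv)
        · have q1 := j.QL hq
          have q2 := mul_mem (mul_mem hp q1) (inv_mem hp)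
          have q3 := mul_mem (inv_mem hp) q1
          rw [← h.conj hp q1, ← h.inv hp, ← h.mul _ (inv_mem hp) _ q1, ← h.mul _ q3 _ hp, ← h.mul _ q1 _ q2,
            ← h.mul _ (mul_mem q1 q2) _ (mul_mem q3 hp)]
          exact (e3 q hq).imp (fun e => by rw [e, h.one]) (congrArg f)
      gH := fun S k k' => aL.2 fun g hg c => (h.mem_pre.1 (j.gH (h.pre S)
        (fun g hg c n => h.mem_pre.2 ⟨hg, k _ (mL hg) ((h.comm_iff hg zL).2 c)
          (aV.2 fun v hv => (h.conj_iff j.VL hg (j.VL hv)).2 (n v hv))⟩)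
        (fun g hg c a ha aL c' => h.conj_pre hg aL (k' _ (mL hg) ((h.comm_iff hg zL).2 c) _ (h.mem_pre.1 ha).2
          (mL aL) ((h.comm_iff aL zL).2 c'))) g hg ((h.comm_iff hg zL).1 c))).2
      inQ := (h.forall_im j.TL).2 fun a ha a2 => by
        obtain ⟨m, hm, e⟩ := j.inQ a ha ((h.sq_iff (j.TL ha)).1 a2)
        exact ⟨_, mM hm, (h.conj_iff j.QL (j.ML hm) (j.TL ha)).2 e⟩
      cjQ := aQ.2 fun q hq q2 => by
        obtain ⟨g, hg, c, e⟩ := j.cjQ q hq ((h.sq_iff (j.QL hq)).1 q2)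
        exact ⟨_, mL hg, (h.comm_iff hg zL).2 c, (h.conj_iff j.VL hg (j.QL hq)).2 e⟩ }

end Cfsg.Agent.Wj
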