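import Mathlib
import Cfsg.Agent.Wj.FA
import Cfsg.Agent.Wj.FB
import Cfsg.Agent.Wj.FC
import Cfsg.Agent.Wj.FD
import Cfsg.Agent.Wj.Map
import Cfsg.Agent.Spor.Out.J4B
import Cfsg.Agent.S2068
import Cfsg.Agent.Gr.SubG

/-!
The facts about a subgroup isomorphic to `J₄`.
-/

set_option autoImplicit false

namespace Cfsg.Agent.Wj

open Cfsg.Agent.Rec Cfsg.Agent.Inv.Fz Cfsg.Agent.Wr Subgroup

universe u v

variable {G : Type u} [Group G]

section

open Cfsg.Agent.Spor Cfsg.Agent.Spor.MB Cfsg.Agent.Spor.J4C Cfsg.Agent.J4T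

theorem jf_of_stJ [Finite G] [IsSimpleGroup G] {z : G} {π : centralizer ({z} : Set G) →* PG} {g l : ℕ → G}
    {ψ : M24 →* G} (s : StJ z π g l ψ) : JF ⊤ (TG g l) (VG z g l) (QG g) ψ.range z (g 1) (g 6) :=
  have x := s.t.m.o.x
  { fA_sd s with
    simple := topEquiv.isSimpleGroup
    syl := x.syl_T
    ML := le_top
    eM := ⟨(MonoidHom.ofInjective (fC_inj s)).symm⟩
    nM := fC_nM s
    MV := by
      rintro _ ⟨y, rfl⟩ h
      rw [s.t.m.inj y h, map_one]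
    dec := fun a _ => fC_dec s a
    cenV := fun a _ h => x.cent_V fun v hv => (h v hv).symm
    cls := fun a _ h1 h2 => (fC_cls s a h1 h2).imp fun _ k => ⟨mem_top _, k⟩
    cd := fun a _ => fC_cd s a
    top := fun S h1 h2 => fD_top s S h1 fun a => h2 a (mem_top a)
    orb := fB_orb s
    irr := fB_irr s
    sqz := fB_sqz s
    sqd := fB_sqd s
    subd := fB_subd s
    comd := fB_comd s
    duad := fC_duad s
    whit := fC_whit s
    four := fA_four s
    f23 := fA_f23 s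
    QT := le_sup_left
    zQ := x.q.z_mem
    dQ := mem_genLt g (by norm_num)
    nQ := fun h _ => x.st.nQ h
    cQ := fun h _ => fD_cQ s h
    comQ := fD_comQ s
    sqQ := fD_sqQ s
    p3 := (fD_p3 s).imp fun _ k => ⟨mem_top _, k.1, fun h _ => k.2.1 h, k.2.2⟩
    gH := fun S h1 h2 h _ => fD_gH s S (fun a => h1 a (mem_top a))
      (fun h k a ha => h2 h (mem_top h) k a ha (mem_top a)) h
    inQ := fD_inQ s
    cjQ := fun q hq h => (x.conj_Q hq h).imp fun _ k => ⟨mem_top _, k⟩ }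

end

theorem exists_JF {L : Subgroup G} (e : Cfsg.Spor.IsoJ4 L) : ∃ T V Q M z d x, JF L T V Q M z d x := by
  obtain ⟨e⟩ := e
  obtain ⟨g, l, ψ, s⟩ := Spor.OutJ4.exists_stJ
  have := Spor.J4C.finite_J4
  have := Spor.J4C.simple_J4
  have h : PH ⊤ fun a => (e.symm a : G) := ⟨fun a _ b _ => by rw [map_mul, coe_mul], fun a _ k =>
    e.symm.map_eq_one_iff.1 (Subtype.ext k)⟩
  have h1 : im (fun a => (e.symm a : G)) ⊤ = L := Subgroup.ext fun y => by
    rw [h.mem_im le_rfl]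
    exact ⟨fun ⟨a, _, k⟩ => k ▸ (e.symm a).2, fun k => ⟨e ⟨y, k⟩, mem_top _, by rw [e.symm_apply_apply]⟩⟩
  exact ⟨_, _, _, _, _, _, _, h1 ▸ (jf_of_stJ s).im h⟩

theorem norm_dec {L : Subgroup G} (e : Cfsg.Spor.IsoJ4 L) :
    ∀ g ∈ normalizer (L : Set G), ∃ a ∈ L, ∃ k ∈ centralizer (L : Set G), g = a * k := fun g hg => by
  obtain ⟨c, hc⟩ := Gr.Sub.inner_of_out e.some S2068.result (L.normalizerMonoidHom ⟨g, hg⟩)
  refine ⟨c, c.2, (c : G)⁻¹ * g, fun l hl => ?_, by simp⟩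
  have h1 : g * l * g⁻¹ = c * l * (c : G)⁻¹ := congrArg Subtype.val (hc ⟨l, hl⟩)
  calc _ = (c : G)⁻¹ * (c * l * (c : G)⁻¹) * g := by group
    _ = _ := by rw [← h1]; group

end Cfsg.Agent.Wj
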