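import Mathlib
import Cfsg.Agent.Wj.Rank

/-!
The conjugates of `t` in `V × ⟨t⟩` are conjugate under the centraliser of `V`.
-/

set_option autoImplicit false

namespace Cfsg.Agent.Wj

open Cfsg.Agent.Rec Cfsg.Agent.Inv.Fz Cfsg.Agent.Wr Subgroup

universe u v

variable {G : Type u} [Group G] [Finite G] {L T V Q M : Subgroup G} {z d x t y a : G}

omit [Finite G] in
theorem ncard_mul_card (N : Subgroup G) (a : G) :
    {y | ∃ k ∈ N, k * a * k⁻¹ = y}.ncard * Nat.card ↥(N ⊓ centralizer {a}) = Nat.card N := by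
  let _ : MulAction N G := MulAction.compHom G ((MulAut.conj : G →* MulAut G).comp N.subtype)
  have h1 : {y | ∃ k ∈ N, k * a * k⁻¹ = y} = MulAction.orbit N a :=
    Set.ext fun y => ⟨fun ⟨k, hk, e⟩ => ⟨⟨k, hk⟩, e⟩, fun ⟨k, e⟩ => ⟨k, k.2, e⟩⟩
  have h2 : (centralizer {a}).subgroupOf N = MulAction.stabilizer N a :=
    Subgroup.ext fun k => mem_cen' (z := a) (g := k)
  rw [← Nat.card_congr (MulAction.orbitProdStabilizerEquivGroup N a), Nat.card_prod, Nat.card_coe_set_eq,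
    ← Nat.card_congr (subgroupOfEquivOfLe (inf_le_left (b := centralizer {a}))).toEquiv, inf_subgroupOf_left, h1, h2]

theorem JF.ncard_cases (j : JF L T V Q M z d x) {S : Set G} (hS : ∀ v ∈ S, v ∈ V ∧ v ≠ 1)
    (hM : ∀ m ∈ M, ∀ v ∈ S, m * v * m⁻¹ ∈ S) : S.ncard = 0 ∨ S.ncard = 2047 ∨
      (S.ncard = 276 ∧ ∀ v ∈ S, ∃ m ∈ M, m * d * m⁻¹ = v) ∨ (S.ncard = 1771 ∧ d ∉ S) := by
  have h1 : ((V : Set G) \ {1}).ncard = 2047 := by
    rw [Set.ncard_sdiff_singleton_of_mem (one_mem V), ← Nat.card_coe_set_eq, SetLike.coe_sort_coe, j.cV]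
    rfl
  set D := {v | ∃ m ∈ M, m * d * m⁻¹ = v}
  have h2 : D ⊆ (V : Set G) \ {1} := by
    rintro _ ⟨m, hm, rfl⟩
    exact ⟨j.nM m hm d j.dV, fun e => j.d1 (conj_eq_one_iff.1 e)⟩
  have h3 : ∀ v ∈ V, v ≠ 1 → v ∉ D → ∃ m ∈ M, m * v * m⁻¹ = z := fun v hv h k => (j.orb v hv h).imp fun m e =>
    ⟨e.1, e.2.resolve_right fun e' => k ⟨_, inv_mem e.1, by rw [← e']; group⟩⟩
  have h4 : ∀ v ∈ S, v ∈ D → D ⊆ S := by
    rintro _ hv ⟨m, hm, rfl⟩ _ ⟨m', hm', rfl⟩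
    simpa [mul_assoc] using hM _ (mul_mem hm' (inv_mem hm)) _ hv
  have h5 : ∀ v ∈ S, v ∉ D → ((V : Set G) \ {1}) \ D ⊆ S := fun v hv k w hw => by
    obtain ⟨m, hm, e⟩ := h3 v (hS v hv).1 (hS v hv).2 k
    obtain ⟨m', hm', e'⟩ := h3 w hw.1.1 hw.1.2 hw.2
    have := hM _ (inv_mem hm') _ (hM m hm v hv)
    rw [e, ← e'] at this
    simpa [mul_assoc] using this
  by_cases k1 : ∃ v ∈ S, v ∈ D <;> by_cases k2 : ∃ v ∈ S, v ∉ D
  · obtain ⟨⟨v, hv, k1⟩, w, hw, k2⟩ := And.intro k1 k2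
    exact .inr (.inl (by rw [← h1, Set.Subset.antisymm (b := (V : Set G) \ {1}) hS fun u hu => (em (u ∈ D)).elim (h4 v hv k1 ·) (h5 w hw k2 ⟨hu, ·⟩)]))
  · obtain ⟨v, hv, k1⟩ := k1
    push Not at k2
    exact .inr (.inr (.inl ⟨by rw [← j.duad, Set.Subset.antisymm k2 (h4 v hv k1)], k2⟩))
  · obtain ⟨w, hw, k2⟩ := k2
    push Not at k1
    refine .inr (.inr (.inr ⟨?_, fun k => k1 d k ⟨1, one_mem _, by group⟩⟩))
    rw [Set.Subset.antisymm (b := ((V : Set G) \ {1}) \ D) (fun u hu => ⟨hS u hu, k1 u hu⟩) (h5 w hw k2),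
      Set.ncard_sdiff h2, h1, j.duad]
  · exact .inl (by rw [Set.eq_empty_of_forall_notMem fun u hu => (em (u ∈ D)).elim (k1 ⟨u, hu, ·⟩) (k2 ⟨u, hu, ·⟩),
      Set.ncard_empty])

theorem Cen.onto (c : Cen L t) (j : JF L T V Q M z d x) (ha : a ∈ V) (a1 : a ≠ 1) (hy : y * t * y⁻¹ = t * a) :
    ∀ w ∈ V, ∃ e ∈ (c.pre j).Dt, ph t e = w := by
  have : Fact (Nat.Prime 89) := ⟨by norm_num⟩
  have h := c.am
  have p := c.pre j
  obtain ⟨n, hn, e⟩ := h.exists_norm j (g := y) (hy ▸ mul_mem (mem_sup_left (mem_zpowers t)) (mem_sup_right ha))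
  rw [hy] at e
  set N := normalizer ((zpowers t ⊔ V : Subgroup G) : Set G)
  have h1 : M ≤ N := fun m hm => mem_normalizer_of_conj_mem fun v hv => (mem_E c.tt p.tV).2
    (((mem_E c.tt p.tV).1 hv).imp (j.nM m hm v) fun k => by
      simpa only [mul_assoc, c.tc _ (inv_mem (j.ML hm))] using j.nM m hm _ k)
  have h2 : ∀ k ∈ N, k * t * k⁻¹ * t ∈ V := fun k hk => ((mem_E c.tt p.tV).1
    (conj_mem_of_mem_norm hk (mem_sup_left (mem_zpowers t)))).resolve_left fun e => h.not_conj j k (j.VL e)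
  have h3 : ∀ k ∈ N, ∀ v ∈ V, k * v * k⁻¹ ∈ V := by
    have h4 : ∀ {v}, v ∈ (⨅ k : N, V.comap (MulAut.conj (k : G)).toMonoidHom) ↔ ∀ k ∈ N, k * v * k⁻¹ ∈ V :=
      mem_iInf.trans Subtype.forall
    rcases j.irr _ (fun v hv => by simpa using h4.1 hv 1 (one_mem _)) (fun m hm v hv => h4.2 fun k hk => by
      simpa only [mul_assoc, mul_inv_rev] using h4.1 hv _ (mul_mem hk (h1 hm))) with k | k
    · refine absurd (mem_bot.1 (k ▸ h4.2 fun k hk => ?_)) a1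
      have h5 := mul_mem (h2 _ (mul_mem hk hn)) (inv_mem (h2 k hk))
      rw [show k * n * t * (k * n)⁻¹ = k * (n * t * n⁻¹) * k⁻¹ by group, e, ← p.tV a ha] at h5
      simpa [mul_assoc] using h5
    · exact fun k' hk v hv => h4.1 (k.ge hv) k' hk
  have h4 : ¬ 89 ∣ Nat.card N := fun k => by
    rw [← ncard_mul_card N t, this.out.dvd_mul] at k
    rcases k with k | k
    · have h5 : {y | ∃ k ∈ N, k * t * k⁻¹ = y} = insert t ((· * t) '' {v | v ≠ 1 ∧ ∃ k ∈ N, k * t * k⁻¹ * t = v}) := by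
        refine Set.ext fun u => ⟨?_, ?_⟩
        · rintro ⟨k, hk, rfl⟩
          exact (em _).imp_right fun k' => ⟨_, ⟨fun e => k' ((eq_inv_of_mul_eq_one_left e).trans
            (inv_eq_of_mul_eq_one_left c.tt)), k, hk, rfl⟩, (mul_assoc _ t t).trans (by rw [c.tt, mul_one])⟩
        · rintro (rfl | ⟨_, ⟨-, k, hk, rfl⟩, rfl⟩)
          · exact ⟨1, one_mem _, by group⟩
          · exact ⟨k, hk, ((mul_assoc _ t t).trans (by rw [c.tt, mul_one])).symm⟩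
      rw [h5, Set.ncard_insert_of_notMem (by rintro ⟨v, hv, e⟩; exact hv.1 (mul_eq_right.1 e)),
        Set.ncard_image_of_injective _ (mul_left_injective t)] at k
      rcases j.ncard_cases (S := {v | v ≠ 1 ∧ ∃ k ∈ N, k * t * k⁻¹ * t = v}) (fun v ⟨k1, k, hk, e⟩ => ⟨e ▸ h2 k hk, k1⟩)
        (fun m hm v ⟨k1, k, hk, e⟩ => ⟨fun e => k1 (conj_eq_one_iff.1 e), _, mul_mem (h1 hm) hk, by
          simp only [← e, mul_inv_rev, mul_assoc, c.tc _ (inv_mem (j.ML hm))]⟩) with e | e | e | e <;> omega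
    · obtain ⟨g, hg, o⟩ : ∃ g ∈ N ⊓ centralizer {t}, orderOf g = 89 :=
        (exists_prime_orderOf_dvd_card' 89 k).elim fun g o => ⟨g, g.2, (orderOf_coe g).trans o⟩
      have h5 : g ^ 89 = 1 := o ▸ pow_orderOf_eq_one g
      have h6 : g ∈ L := (c.dec g (mem_cen.1 hg.2)).elim id fun k => by
        have := pow_mem k 90
        rwa [(show Commute g t from mem_cen.1 hg.2).mul_pow, pow_succ, h5, one_mul, show 90 = 2 * 45 from rfl, pow_mul, sq,
          c.tt, one_pow, mul_one] at this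
      obtain ⟨v, hv, m, hm, rfl⟩ := j.dec g h6 (h3 g hg.1)
      have h7 : ∀ i, (v * m) ^ i * (m ^ i)⁻¹ ∈ V := fun i => by
        induction i with
        | zero => simp
        | succ i ih => simpa only [pow_succ', mul_assoc, mul_inv_rev] using mul_mem hv (j.nM m hm _ ih)
      have h8 := j.MV _ (pow_mem hm 89) (by simpa only [h5, one_mul, inv_mem_iff] using h7 89)
      have h9 := Nat.dvd_gcd (orderOf_dvd_of_pow_eq_one h8) (j.cM ▸ orderOf_dvd_natCard M hm)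
      rw [orderOf_eq_one_iff.1 (Nat.dvd_one.1 h9), mul_one] at o
      exact absurd (o ▸ orderOf_dvd_of_pow_eq_one (n := 2) (by rw [sq, j.sq v hv])) (by norm_num)
  obtain ⟨m, hm, h5⟩ := j.whit (fun v => n * v * n⁻¹) ⟨fun _ _ _ _ => (conj_mul ..).symm, fun _ _ => conj_eq_one_iff.1⟩
    (h3 n hn) fun m hm => by
      rcases j.ncard_cases (S := {v | ∃ k ∈ N, k * d * k⁻¹ = v})
        (fun v ⟨k, hk, e⟩ => e ▸ ⟨h3 k hk d j.dV, fun e => j.d1 (conj_eq_one_iff.1 e)⟩)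
        (fun m hm v ⟨k, hk, e⟩ => ⟨_, mul_mem (h1 hm) hk, by rw [← e]; group⟩) with e | e | e | e
      · exact absurd (ncard_mul_card N d) (by rw [e, zero_mul]; exact Nat.card_pos.ne)
      · exact absurd (by rw [← ncard_mul_card N d, e]; exact Dvd.dvd.mul_right (by norm_num) _) h4
      · exact (e.2 _ ⟨_, mul_mem hn (h1 hm), by group⟩).imp fun _ k => ⟨k.1, k.2.symm⟩
      · exact absurd ⟨1, one_mem _, by group⟩ e.2
  let φ : (c.pre j).Dt →* G := MonoidHom.mk' (fun e => ph t e) fun a b => p.mul a.2 b.2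
  have h6 : ph t (m⁻¹ * n) = m⁻¹ * a * m := by
    rw [ph, show m⁻¹ * n * t * (m⁻¹ * n)⁻¹ = m⁻¹ * (n * t * n⁻¹) * m by group, e, mul_assoc, c.tc m (j.ML hm), ← p.tV a ha,
      mul_assoc, mul_assoc, ← mul_assoc t, c.tt, one_mul, mul_assoc]
  rcases j.irr φ.range (by rintro _ ⟨e, rfl⟩; exact e.2.2) (by
    rintro m hm _ ⟨e, rfl⟩
    exact ⟨⟨_, p.conj_mem (c.tc m (j.ML hm)) (mem_normalizer_of_conj_mem (j.nM m hm)) e.2⟩,
      ph_conj (c.tc m (j.ML hm)) _⟩) with k | k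
  · refine absurd (mem_bot.1 (k.le ⟨⟨m⁻¹ * n, fun v hv => ?_, ?_⟩, h6⟩)) fun e => a1 ?_
    · rw [mul_assoc, mul_inv_eq_iff_eq_mul.1 (h5 v hv)]
      group
    · simpa only [h6, inv_inv] using j.nM _ (inv_mem hm) a ha
    · simpa only [← mul_assoc, mul_inv_cancel, one_mul, mul_inv_cancel_right, mul_one] using congrArg (m * · * m⁻¹) e
  · exact fun w hw => (k.ge hw).elim fun e k => ⟨e, e.2, k⟩

end Cfsg.Agent.Wj
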