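import Mathlib
import Cfsg.Agent.Wj.Rank
import Cfsg.Agent.Wj.Map
import Cfsg.Agent.Wr.Quot

/-!
Passage to the quotient by the odd-order part of the involution centraliser.
-/

set_option autoImplicit false

namespace Cfsg.Agent.Wj

open Cfsg.Agent.Rec Cfsg.Agent.Inv.Fz Cfsg.Agent.Wr Cfsg.Agent.Wr.Qt Cfsg.Agent.UT Subgroup

universe u v

variable {G K : Type u} [Group G] [Finite G] [Group K] {L T V Q M O : Subgroup G} {z d x t y a : G}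

omit [Finite G] in
/-- The wreath configuration generates a `2`-group. -/
theorem Wg.exists_pg {X : Subgroup G} {θ : G → G} (w : Wg T X t z d θ) (pT : IsPGroup 2 T) (tt : t * t = 1) :
    ∃ Q : Subgroup G, IsPGroup 2 Q ∧ t ∈ Q ∧ ∀ a ∈ T, θ a ∈ Q := by
  let φ : T →* G := MonoidHom.mk' (fun a => θ a) fun a b => w.mul a a.2 b b.2
  have h1 : IsPGroup 2 φ.range := pT.of_surjective _ φ.rangeRestrict_surjective
  have ti := inv_eq_of_mul_eq_one_right tt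
  have h2 : cj t φ.range ≤ centralizer (φ.range : Set G) := cj_le_iff.2 fun _ ⟨b, hb⟩ _ ⟨a, ha⟩ => by
    rw [← ha, ← hb, ti]
    exact w.comm a a.2 b b.2
  refine ⟨_, pg_ext ((isPGroup_cj h1 t).to_sup_of_normal_right' h1 (Gold.R2.norm_of_cent h2)) tt (cj_eq_iff.1 ?_),
    mem_sup_left (mem_zpowers _), fun a ha => mem_sup_right (mem_sup_right ⟨⟨a, ha⟩, rfl⟩)⟩
  rw [cj_sup, cj_cj, tt, cj_one, sup_comm]

section Img

variable (c : Cov G K) (h : Am L c.W t) (hM : ∀ g, g * t = t * g → g ∈ c.M)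
include h hM

omit [Finite G] in
theorem ph_f : PH L c.f :=
  ⟨fun a ha b hb => c.mul (hM a (h.tc a ha)) (hM b (h.tc b hb)), fun a ha e =>
    h.disj a ((c.ker (hM a (h.tc a ha))).1 e) ha⟩

theorem cen_f : Cen (im c.f L) (c.f t) := by
  have p := ph_f c h hM
  have tM := hM t rfl
  refine ⟨c.sq tM h.tt, fun hg => ?_, (p.forall_im le_rfl).2 fun l hl => c.comm (hM l (h.tc l hl)) tM (h.tc l hl),
    fun k hk => ?_⟩
  · obtain ⟨l, hl, e⟩ := (p.mem_im le_rfl).1 hg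
    have h1 := (c.eq_iff (hM l (h.tc l hl)) tM).1 e
    have h2 : l⁻¹ * t * (l⁻¹ * t) = l⁻¹ * l⁻¹ := by
      rw [mul_assoc, ← mul_assoc t, ← h.tc _ (inv_mem hl), mul_assoc, h.tt, mul_one]
    have h3 := Gold.R2.eq_one_of_sq_odd c.odd
      (h.disj _ (mul_mem h1 h1) (h2 ▸ mul_mem (inv_mem hl) (inv_mem hl))) h1
    exact h.tL (inv_mul_eq_one.1 h3 ▸ hl)
  · obtain ⟨n, n1, rfl, n2⟩ := c.lift1 tM tM h.tt h.tt (mul_inv_eq_iff_eq_mul.2 hk)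
    obtain ⟨o, ho, e⟩ := h.dec n (mul_inv_eq_iff_eq_mul.1 n2)
    have e1 : c.f (n * o) = c.f n := by rw [c.mul n1 (c.le ho), (c.ker (c.le ho)).2 ho, mul_one]
    exact e.imp (fun e => (p.mem_im le_rfl).2 ⟨_, e, e1⟩) fun e => (p.mem_im le_rfl).2
      ⟨_, e, by rw [c.mul (mul_mem n1 (c.le ho)) tM, e1]⟩

theorem lift_wg [Finite K] (j : JF L T V Q M z d x) {X : Subgroup G} [X.Normal] {θ : K → K}
    (w : Wg (im c.f T) (c.img X) (c.f t) (c.f z) (c.f d) θ) : ∃ θ, Wg T X t z d θ := by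
  have p := ph_f c h hM
  have tM := hM _ rfl
  obtain ⟨R, hQ, tQ, hθ⟩ := w.exists_pg (j.im p).pT (c.sq tM h.tt)
  have TM : T ≤ c.M := fun g hg => hM g (h.tc g (j.TL hg))
  have fT : ∀ {a}, a ∈ T → c.f a ∈ im c.f T := fun ha => (p.mem_im j.TL).2 ⟨_, ha, rfl⟩
  obtain ⟨S, hS, h1, h2⟩ := exists_lift c hQ (h.syl j).isPGroup (sup_le (zpowers_le.2 ((mem_pre c).2 ⟨tM, tQ⟩))
    fun a ha => (mem_pre c).2 ⟨TM ha, w.diag _ (fT ha) ▸ mul_mem (hθ _ (fT ha)) (mul_mem (mul_mem tQ (hθ _ (fT ha))) tQ)⟩)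
  have SM : S ≤ c.M := fun g hg => ((mem_pre c).1 (hS.le hg)).1
  have tS : t ∈ S := h1 (mem_sup_left (mem_zpowers _))
  have h3 : ∀ a, ∃ p, a ∈ T → p ∈ S ∧ c.f p = θ (c.f a) := fun a => by
    by_cases ha : a ∈ T
    · exact (h2 _ (hθ _ (fT ha))).imp fun _ e _ => e
    · exact ⟨1, fun e => absurd e ha⟩
  choose η hη using h3
  have m1 : ∀ {a}, a ∈ T → η a ∈ S := fun ha => (hη _ ha).1
  have m2 : ∀ {a}, a ∈ T → t * η a * t ∈ S := fun ha => mul_mem (mul_mem tS (m1 ha)) tS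
  have e1 : ∀ {a}, a ∈ T → c.f (η a) = θ (c.f a) := fun ha => (hη _ ha).2
  have e2 : ∀ {a}, a ∈ T → c.f (t * η a * t) = c.f t * θ (c.f a) * c.f t := fun ha => by
    rw [c.mul (mul_mem tM (SM (m1 ha))) tM, c.mul tM (SM (m1 ha)), e1 ha]
  have e3 : ∀ {a b}, a ∈ T → b ∈ T → c.f (η a * (t * η b * t)) = θ (c.f a) * (c.f t * θ (c.f b) * c.f t) :=
    fun ha hb => by rw [c.mul (SM (m1 ha)) (SM (m2 hb)), e1 ha, e2 hb]
  have inj := fun {a b} => c.inj (x := a) (y := b) hS.isPGroup SM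
  have x1 : ∀ {a}, a ∈ T → η a ∈ X := fun ha =>
    mem_of_img c hS.isPGroup (m1 ha) (SM (m1 ha)) (e1 ha ▸ w.mem _ (fT ha))
  have x2 : ∀ {a}, a ∈ T → t * η a * t ∈ X := fun ha => by
    simpa only [inv_eq_of_mul_eq_one_right h.tt] using Normal.conj_mem inferInstance _ (x1 ha) t
  have rp : ∀ {a e}, a ∈ T → Rp (c.f z) (c.f d) (c.f a) e → ∃ e' ∈ T, Rp z d a e' ∧ c.f e' = e := by
    rintro a e ha (⟨k1, rfl⟩ | ⟨k1, rfl | rfl⟩)
    · exact ⟨1, one_mem _, Or.inl ⟨p.inj a (j.TL ha) k1, rfl⟩, c.one⟩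
    · exact ⟨z, j.VT j.zV, Or.inr ⟨fun k => k1 (k ▸ c.one), Or.inl rfl⟩, rfl⟩
    · exact ⟨d, j.VT j.dV, Or.inr ⟨fun k => k1 (k ▸ c.one), Or.inr rfl⟩, rfl⟩
  refine ⟨η, fun a ha b hb => inj (m1 (mul_mem ha hb)) (mul_mem (m1 ha) (m1 hb)) ?_,
    fun a ha => inj (mul_mem (m1 ha) (m2 ha)) (h1 (mem_sup_right ha)) ?_,
    fun a ha b hb => inj (mul_mem (m1 ha) (m2 hb)) (mul_mem (m2 hb) (m1 ha)) ?_, fun a ha => x1 ha,
    fun a ha b hb aa bb => ?_⟩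
  · rw [c.mul (SM (m1 ha)) (SM (m1 hb)), e1 ha, e1 hb, e1 (mul_mem ha hb), c.mul (TM ha) (TM hb)]
    exact w.mul _ (fT ha) _ (fT hb)
  · rw [e3 ha ha]
    exact w.diag _ (fT ha)
  · rw [e3 ha hb, c.mul (SM (m2 hb)) (SM (m1 ha)), e1 ha, e2 hb]
    exact w.comm _ (fT ha) _ (fT hb)
  · obtain ⟨k, hk, e, e', r, r', q⟩ := w.move _ (fT ha) _ (fT hb) (c.sq (TM ha) aa) (c.sq (TM hb) bb)
    obtain ⟨u, hu, s, rfl⟩ := rp ha r
    obtain ⟨u', hu', s', rfl⟩ := rp hb r'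
    obtain ⟨n, hn, k3⟩ := exists_fus c hS h2 hk
    exact ⟨n, hn, u, u', s, s', k3 _ (mul_mem (m1 ha) (m2 hb)) (mul_mem (x1 ha) (x2 hb)) _ (mul_mem (m1 hu) (m2 hu'))
      (by rw [e3 ha hb, e3 hu hu', q])⟩

end Img

theorem Am.exists_wg (h : Am L O t) (j : JF L T V Q M z d x) (ha : a ∈ V) (a1 : a ≠ 1) (hy : y * t * y⁻¹ = t * a)
    (core : ∀ (K : Type u) [Group K] [Finite K] (L T V Q M : Subgroup K) (z d x t y a : K), JF L T V Q M z d x →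
      Cen L t → a ∈ V → a ≠ 1 → y * t * y⁻¹ = t * a → ∀ (X : Subgroup K) [X.Normal], L ≤ X → ∃ θ, Wg T X t z d θ)
    (X : Subgroup G) [X.Normal] (hX : L ≤ X) : ∃ θ, Wg T X t z d θ := by
  obtain ⟨y', n, hy'⟩ := h.exists_norm j (g := y) (hy ▸ mul_mem (mem_sup_left (mem_zpowers t)) (mem_sup_right ha))
  let c := Cov.quot (normalizer (O : Set G)) O le_normalizer h.odd
  have hM : ∀ g, g * t = t * g → g ∈ c.M := fun _ => h.norm
  have := normal_img c X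
  have p := ph_f c h hM
  have aL := j.VL ha
  obtain ⟨θ, w⟩ := core _ _ _ _ _ _ _ _ _ _ (c.f y') (c.f a) (j.im p) (cen_f c h hM) ((p.mem_im j.VL).2 ⟨a, ha, rfl⟩)
    (fun e => a1 (p.inj a aL e))
    (by rw [← c.conj (h.norm_O j n) (hM t rfl), hy', hy, c.mul (hM t rfl) (hM a (h.tc a aL))])
    (c.img X) fun k hk => by
      obtain ⟨g, hg, e⟩ := (p.mem_im le_rfl).1 hk
      exact c.mem_img.2 ⟨g, hX hg, hM g (h.tc g hg), e⟩
  exact lift_wg c h hM j w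

end Cfsg.Agent.Wj
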