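import Mathlib
import Cfsg.Agent.Wj.Defs
import Cfsg.Agent.Wr.ProdA

/-!
The wreath configuration: lifting the fusion of `J₄` to the two factors.
-/

set_option autoImplicit false

namespace Cfsg.Agent.Wj

open Cfsg.Agent.Rec Cfsg.Agent.Inv.Fz Cfsg.Agent.Wr Subgroup

universe u v

section

variable {G : Type u} [Group G] {L T V Q M K : Subgroup G} {z d x t : G} {θ : G → G}

/-- The lift of the Sylow subgroup to `K`. -/
structure Th (K T : Subgroup G) (t : G) (θ : G → G) : Prop where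
  mem : ∀ a ∈ T, θ a ∈ K
  diag : ∀ a ∈ T, θ a * (t * θ a * t) = a
  two : ∀ a ∈ T, ∃ n, θ a ^ 2 ^ n = 1
  mul : ∀ a ∈ T, ∀ b ∈ T, θ (a * b) = θ a * θ b
  uniq : ∀ k ∈ K, (∃ n, k ^ 2 ^ n = 1) → k * (t * k * t) ∈ T → k = θ (k * (t * k * t))

theorem comm_of_ph {a b : G} (e : ph t a = ph t b) : a⁻¹ * b * t = t * (a⁻¹ * b) := by
  have h : a * t * a⁻¹ = b * t * b⁻¹ := mul_right_cancel e
  calc _ = a⁻¹ * (b * t * b⁻¹) * b := by group
    _ = _ := by rw [← h]; group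

namespace Th

variable (h : Th K T t θ)
include h

theorem one : θ 1 = 1 := by simpa using h.mul 1 (one_mem _) 1 (one_mem _)

variable (k : KD L V K t) (c : Cen L t) (j : JF L T V Q M z d x)
include k c j

omit j in
theorem nrm {l : G} (hl : l ∈ L) (hV : ∀ v ∈ V, l * v * l⁻¹ ∈ V) : ∃ κ ∈ K, ∀ a ∈ T, l * a * l⁻¹ ∈ T →
    κ * θ a * κ⁻¹ = θ (l * a * l⁻¹) ∧ l * θ a * l⁻¹ = θ (l * a * l⁻¹) := by
  obtain ⟨κ, hκ, rfl⟩ := k.on l hl hV
  have ti := inv_eq_of_mul_eq_one_right c.tt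
  refine ⟨κ, hκ, fun a ha e => ?_⟩
  have h1 := k.cm _ (h.mem a ha) _ hκ
  have h2 := k.cm _ (inv_mem hκ) _ (mul_mem (h.mem a ha) (inv_mem hκ))
  have h3 := k.cm _ (mul_mem (h.mem a ha) (inv_mem hκ)) _ hκ
  have h4 : κ * θ a * κ⁻¹ * (t * (κ * θ a * κ⁻¹) * t) = κ * (t * κ * t) * a * (κ * (t * κ * t))⁻¹ := by
    calc _ = κ * (θ a * κ⁻¹ * (t * κ * t)) * (t⁻¹ * (θ a * κ⁻¹) * t) := by group
      _ = κ * (t * κ * t) * θ a * (κ⁻¹ * (t * (θ a * κ⁻¹) * t)) := by rw [h3, ti]; group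
      _ = κ * (t * κ * t) * (θ a * (t * θ a * t)) * (t⁻¹ * κ⁻¹ * t * κ⁻¹) := by rw [h2]; group
      _ = _ := by rw [h.diag a ha]; simp only [mul_inv_rev, ti, mul_assoc]
  have h5 := h.uniq _ (mul_mem (mul_mem hκ (h.mem a ha)) (inv_mem hκ))
    ((h.two a ha).imp fun n e => by rw [conj_pow, e, mul_one, mul_inv_cancel]) (h4 ▸ e)
  rw [h4] at h5
  exact ⟨h5, by rw [← h5, mul_assoc κ, ← h1]; group⟩

omit k c in
theorem zz : θ z * θ z = 1 := by rw [← h.mul z (j.VT j.zV) z (j.VT j.zV), j.zz, h.one]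

omit k c in
theorem zθ {a : G} (ha : a ∈ T) : θ a * θ z = θ z * θ a := by
  rw [← h.mul z (j.VT j.zV) a ha, ← h.mul a ha z (j.VT j.zV), j.zc a ha]

omit c in
theorem zT {a : G} (ha : a ∈ T) : a * θ z = θ z * a := by
  simpa only [h.diag a ha] using (Commute.mul_left (h.zθ j ha) (k.cm _ (h.mem z (j.VT j.zV)) _ (h.mem a ha)).symm).eq

omit c in
theorem θz {a : G} (ha : a ∈ T) : θ a * z = z * θ a := by
  simpa only [h.diag z (j.VT j.zV)] using (Commute.mul_right (h.zθ j ha) (k.cm _ (h.mem a ha) _ (h.mem z (j.VT j.zV)))).eq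

omit h k in
theorem four {e : G} (h1 : e * t = t * e) (h2 : ∀ q ∈ Q, e * q = q * e) :
    (e = 1 ∨ e = z) ∨ ∃ w, (w = 1 ∨ w = z) ∧ e = w * t :=
  (c.dec e h1).imp (j.cQ e · h2) fun he => ⟨_, j.cQ _ he fun q hq => by
    rw [mul_assoc, ← c.tc q (j.QL hq), ← mul_assoc, h2 q hq, mul_assoc], by rw [mul_assoc, c.tt, mul_one]⟩

theorem sq_t {a w : G} (ha : a ∈ T) (hw : w = 1 ∨ w = z) : θ a * (w * t) * (θ a * (w * t)) = a := by
  rcases hw with rfl | rfl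
  · simpa only [one_mul, mul_assoc] using h.diag a ha
  · have h1 := c.tc _ (j.VL j.zV)
    calc _ = θ a * (w * (t * θ a * w) * t) := by group
      _ = θ a * (w * w * (t * θ a * t)) := by rw [mul_assoc t, h.θz k j ha, ← mul_assoc t, ← h1]; group
      _ = _ := by rw [j.zz, one_mul, h.diag a ha]

theorem cenZ {g : G} (hg : g ∈ L) (gz : g * z = z * g) : g * θ z = θ z * g := by
  have zT := j.VT j.zV
  refine mem_cen.1 (j.gH (centralizer {θ z}) (fun g hg gz hV => ?_) (fun g hg gz s hs _ sz => ?_) g hg gz)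
  · obtain ⟨_, -, e⟩ := h.nrm k c hg hV
    have := (e z zT (by rwa [gz, mul_inv_cancel_right])).2
    rwa [gz, mul_inv_cancel_right, ← mem_cen'] at this
  have h1 : ph t (θ z) = z := by rw [ph, inv_eq_of_mul_eq_one_right (h.zz j), mul_assoc, mul_assoc, ← mul_assoc t, h.diag z zT]
  have gz' : g⁻¹ * z = z * g⁻¹ := Commute.inv_left gz
  have h2 : (θ z)⁻¹ * (g⁻¹ * θ z * g⁻¹⁻¹) = 1 ∨ (θ z)⁻¹ * (g⁻¹ * θ z * g⁻¹⁻¹) = z := by
    refine (four c j (comm_of_ph (by rw [ph_conj (c.tc _ (inv_mem hg)), h1, gz', mul_inv_cancel_right])) fun q hq =>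
      Commute.mul_left (Commute.inv_left (h.zT k j (j.QT hq)).symm) ?_).resolve_right fun ⟨w, hw, e⟩ => j.z1 ?_
    · have := congrArg (g⁻¹ * · * g) (h.zT k j (j.QT (j.nQ g hg gz q hq)))
      simpa [Commute, SemiconjBy, mul_assoc] using this.symm
    · rw [← h.sq_t k c j zT hw, ← e, mul_inv_cancel_left, conj_mul, h.zz j, mul_one, mul_inv_cancel]
  have h3 : s * (g⁻¹ * θ z * g⁻¹⁻¹) = g⁻¹ * θ z * g⁻¹⁻¹ * s := by
    rw [← mul_inv_cancel_left (θ z) (g⁻¹ * θ z * g⁻¹⁻¹)]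
    exact Commute.mul_right (mem_cen.1 hs) (h2.elim (fun e => e ▸ Commute.one_right s) fun e => by rwa [e])
  simpa [mem_cen, mul_assoc] using congrArg (g * · * g⁻¹) h3

omit c in
theorem θQ {q r : G} (hq : q ∈ T) (hr : r ∈ T) {w : G} (hw : w = 1 ∨ w = z) (e : q * r * q⁻¹ = r * w) :
    θ q * r * (θ q)⁻¹ = r * θ w := by
  have wT : w ∈ T := hw.elim (· ▸ one_mem _) (· ▸ j.VT j.zV)
  have h1 : θ q * θ r = θ r * θ w * θ q := by
    rw [← h.mul q hq r hr, ← h.mul r hr w wT, ← h.mul _ (mul_mem hr wT) q hq, ← e, inv_mul_cancel_right]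
  have h2 : θ q * (θ r * (t * θ r * t)) = θ r * (t * θ r * t) * θ w * θ q := by
    rw [← mul_assoc, h1, mul_assoc, k.cm _ (h.mem q hq) _ (h.mem r hr), mul_assoc (θ r), ← mul_assoc (θ w),
      k.cm _ (h.mem w wT) _ (h.mem r hr), ← mul_assoc, ← mul_assoc]
  rwa [h.diag r hr, ← mul_inv_eq_iff_eq_mul] at h2

theorem eps {g q : G} (hg : g ∈ L) (gz : g * z = z * g) (hq : q ∈ Q) :
    (θ (g * q * g⁻¹))⁻¹ * (g * θ q * g⁻¹) = 1 ∨ (θ (g * q * g⁻¹))⁻¹ * (g * θ q * g⁻¹) = z := by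
  have hq' := j.nQ g hg gz q hq
  have h1 : ∀ {w}, w = 1 ∨ w = z → g * w * g⁻¹ = w ∧ g * θ w * g⁻¹ = θ w := fun hw => by
    rcases hw with rfl | rfl
    · simp [h.one]
    · rw [gz, h.cenZ k c j hg gz, mul_inv_cancel_right, mul_inv_cancel_right]
      exact ⟨rfl, rfl⟩
  have h2 : ∀ q ∈ Q, ph t (θ q) = q * (t * (θ (q * q))⁻¹ * t) := fun q hq => by
    have e := congrArg (· * (t * (θ q * θ q)⁻¹ * t)) (h.diag q (j.QT hq))
    simp only [mul_inv_rev, mul_assoc, ← mul_assoc t t, c.tt, one_mul, mul_inv_cancel_left] at e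
    simpa only [h.mul q (j.QT hq) q (j.QT hq), ph, mul_inv_rev, mul_assoc] using e
  have h3 := h1 (j.sqQ q hq)
  refine (four c j (comm_of_ph ?_) fun r hr => ?_).resolve_right fun ⟨w, hw, e⟩ => ?_
  · rw [ph_conj (c.tc g hg), h2 q hq, h2 _ hq', conj_mul, h3.1, ← conj_mul, ← conj_mul, ← conj_mul, ← conj_inv, h3.2,
      c.tc g hg, mul_inv_cancel_right]
  · have hr' := j.nQ _ (inv_mem hg) (Commute.inv_left gz) r hr
    obtain ⟨w, hw, e⟩ : ∃ w, (w = 1 ∨ w = z) ∧ q * (g⁻¹ * r * g⁻¹⁻¹) * q⁻¹ = g⁻¹ * r * g⁻¹⁻¹ * w :=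
      (j.comQ q hq _ hr').elim (fun e => ⟨1, .inl rfl, by rwa [mul_one]⟩) fun e => ⟨z, .inr rfl, e⟩
    have h4 := h.θQ k j (j.QT hq') (j.QT hr) hw (by
      rw [← (h1 hw).1]; simpa [mul_assoc] using congrArg (g * · * g⁻¹) e)
    have h5 : g * θ q * g⁻¹ * r * (g * θ q * g⁻¹)⁻¹ = r * θ w := by
      rw [← (h1 hw).2]; simpa [mul_assoc] using congrArg (g * · * g⁻¹) (h.θQ k j (j.QT hq) (j.QT hr') hw e)
    rw [mul_assoc, mul_inv_eq_iff_eq_mul.1 h5, ← h4]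
    group
  · have h4 := h.sq_t k c j (j.QT hq') hw
    rw [← e, mul_inv_cancel_left, conj_mul, ← h.mul q (j.QT hq) q (j.QT hq), h3.2] at h4
    rcases j.sqQ q hq with e' | e' <;> rw [e'] at h4
    · rw [h.one, eq_comm, conj_eq_one_iff] at h4
      rw [h4, mul_one, mul_inv_cancel, h.one, mul_one, mul_inv_cancel, mul_one, inv_one, eq_comm, mul_eq_one_iff_inv_eq] at e
      exact c.tL (e ▸ inv_mem (hw.elim (· ▸ one_mem _) (· ▸ j.VL j.zV)))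
    · refine j.z1 ?_
      rw [← h.diag z (j.VT j.zV), ← c.tc _ (h4 ▸ j.QL hq'), mul_assoc _ t, c.tt, mul_one, h.zz j]

theorem conjQ [Finite G] {g q : G} (hg : g ∈ L) (gz : g * z = z * g) (hq : q ∈ Q) :
    g * θ q * g⁻¹ = θ (g * q * g⁻¹) := by
  obtain ⟨p, hp, pz, h1, h2⟩ := j.p3
  set ε : G → G := fun q => (θ (g * q * g⁻¹))⁻¹ * (g * θ q * g⁻¹)
  have h3 : ∀ a ∈ Q, ∀ b ∈ Q, ε (a * b) = ε a * ε b := fun a ha b hb => by
    have k1 := j.QT (j.nQ g hg gz b hb)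
    have k2 : Commute (θ (g * b * g⁻¹)) (ε a) :=
      (h.eps k c j hg gz ha).elim (fun e => (show ε a = 1 from e) ▸ Commute.one_right _)
        fun e => (show ε a = z from e) ▸ h.θz k j k1
    rw [← mul_assoc (ε a), ← k2.inv_left.eq]
    simp only [ε]
    rw [← conj_mul, h.mul _ (j.QT (j.nQ g hg gz a ha)) _ k1, h.mul a (j.QT ha) b (j.QT hb)]
    group
  have h4 : ∀ n ∈ L, n * z = z * n → (∀ v ∈ V, n * v * n⁻¹ ∈ V) → (∀ v ∈ V, g * n * g⁻¹ * v * (g * n * g⁻¹)⁻¹ ∈ V) →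
      ε (n * q * n⁻¹) = ε q := fun n hn nz k1 k2 => by
    have hn' := mul_mem (mul_mem hg hn) (inv_mem hg)
    have nz' : g * n * g⁻¹ * z = z * (g * n * g⁻¹) := Commute.mul_left (Commute.mul_left gz nz) (Commute.inv_left gz)
    obtain ⟨_, -, e1⟩ := h.nrm k c hn k1
    obtain ⟨_, -, e2⟩ := h.nrm k c hn' k2
    have k3 : g * n * g⁻¹ * ε q * (g * n * g⁻¹)⁻¹ = ε q := (h.eps k c j hg gz hq).elim
      (fun e => by rw [show ε q = 1 from e, mul_one, mul_inv_cancel])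
      fun e => by rw [show ε q = z from e, nz', mul_inv_cancel_right]
    rw [← k3]
    simp only [ε]
    rw [show g * (n * q * n⁻¹) * g⁻¹ = g * n * g⁻¹ * (g * q * g⁻¹) * (g * n * g⁻¹)⁻¹ by group,
      ← (e1 q (j.QT hq) (j.QT (j.nQ n hn nz q hq))).2,
      ← (e2 _ (j.QT (j.nQ g hg gz q hq)) (j.QT (j.nQ _ hn' nz' _ (j.nQ g hg gz q hq)))).2]
    group
  have h5 : ∀ {n : G}, (∀ v ∈ V, n * v * n⁻¹ ∈ V) → ∀ v ∈ V, n⁻¹ * v * n⁻¹⁻¹ ∈ V := fun k _ =>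
    conj_mem_of_mem_norm (inv_mem (mem_normalizer_of_conj_mem k))
  have h6 : ∀ v ∈ V, p * v * p⁻¹ ∈ V := by simpa using h1 1 (one_mem _) (by simp)
  have h7 := h4 _ (inv_mem hp) (Commute.inv_left pz) (h5 h6) (by rw [← conj_inv]; exact h5 (h1 g hg gz))
  have h8 := j.nQ _ (inv_mem hp) (Commute.inv_left pz) q hq
  rw [inv_inv] at h7 h8
  have h9 : ε (q * (p * q * p⁻¹) * (p⁻¹ * q * p)) = 1 := by
    rcases h2 q hq with e | e <;> simp only [e, ε]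
    · simp [h.one]
    · rw [gz, h.cenZ k c j hg gz, mul_inv_cancel_right, mul_inv_cancel_right, inv_mul_cancel]
  rw [h3 _ (mul_mem hq (j.nQ p hp pz q hq)) _ h8, h3 q hq _ (j.nQ p hp pz q hq), h7, h4 p hp pz h6 (h1 g hg gz)] at h9
  refine (inv_mul_eq_one.1 ((h.eps k c j hg gz hq).resolve_right fun e => j.z1 ?_)).symm
  rwa [show ε q = z from e, j.zz, one_mul] at h9

theorem exists_lift [Finite G] {X : Subgroup G} [hX : X.Normal] (hK : K ≤ X) {g : G} (hg : g ∈ L) (gz : g * z = z * g) :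
    ∃ κ ∈ X, ∀ q ∈ Q, κ * θ q * κ⁻¹ = θ (g * q * g⁻¹) ∧ κ * (t * θ q * t) = t * θ q * t * κ := by
  let S : Subgroup G :=
    { carrier := {g | g ∈ L ∧ g * z = z * g ∧
        ∃ κ ∈ X, ∀ q ∈ Q, κ * θ q * κ⁻¹ = θ (g * q * g⁻¹) ∧ κ * (t * θ q * t) = t * θ q * t * κ}
      one_mem' := ⟨one_mem _, by simp, 1, one_mem _, by simp⟩
      mul_mem' := fun {a b} ⟨a1, a2, α, a3, a4⟩ ⟨b1, b2, β, b3, b4⟩ => ⟨mul_mem a1 b1, Commute.mul_left a2 b2, _,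
        mul_mem a3 b3, fun q hq => ⟨by
          rw [show a * b * q * (a * b)⁻¹ = a * (b * q * b⁻¹) * a⁻¹ by group, ← (a4 _ (j.nQ b b1 b2 q hq)).1, ← (b4 q hq).1]
          group, Commute.mul_left (a4 q hq).2 (b4 q hq).2⟩⟩
      inv_mem' := fun {a} ⟨a1, a2, α, a3, a4⟩ => ⟨inv_mem a1, Commute.inv_left a2, _, inv_mem a3, fun q hq => ⟨by
        have := (a4 _ (j.nQ _ (inv_mem a1) (Commute.inv_left a2) q hq)).1
        rw [show a * (a⁻¹ * q * a⁻¹⁻¹) * a⁻¹ = q by group] at this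
        rw [← this]; group, Commute.inv_left (a4 q hq).2⟩⟩ }
  refine (j.gH S (fun g hg gz hV => ?_) (fun g hg gz s ⟨s1, s2, κ, s3, s4⟩ _ _ => ?_) g hg gz).2.2
  · obtain ⟨κ, k1, k2⟩ := h.nrm k c hg hV
    exact ⟨hg, gz, κ, hK k1, fun q hq => ⟨(k2 q (j.QT hq) (j.QT (j.nQ g hg gz q hq))).1, k.cm _ k1 _ (h.mem q (j.QT hq))⟩⟩
  refine ⟨mul_mem (mul_mem hg s1) (inv_mem hg), Commute.mul_left (Commute.mul_left gz s2) (Commute.inv_left gz), _,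
    hX.conj_mem κ s3 g, fun q hq => ?_⟩
  have k1 := j.nQ _ (inv_mem hg) (Commute.inv_left gz) q hq
  have k2 := h.conjQ k c j hg gz k1
  rw [show g * (g⁻¹ * q * g⁻¹⁻¹) * g⁻¹ = q by group] at k2
  have k3 : g * (t * θ (g⁻¹ * q * g⁻¹⁻¹) * t) * g⁻¹ = t * θ q * t := by
    rw [← conj_mul, ← conj_mul, k2, c.tc g hg, mul_inv_cancel_right]
  refine ⟨?_, by rw [← k3, conj_mul, conj_mul, (s4 _ k1).2]⟩
  rw [show g * s * g⁻¹ * q * (g * s * g⁻¹)⁻¹ = g * (s * (g⁻¹ * q * g⁻¹⁻¹) * s⁻¹) * g⁻¹ by group,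
    ← h.conjQ k c j hg gz (j.nQ s s1 s2 _ k1), ← (s4 _ k1).1, ← k2]
  group

end Th

end

variable {G : Type u} [Group G] [Finite G] {L T V Q M K : Subgroup G} {z d x t : G}

theorem KD.exists_wg (k : KD L V K t) (c : Cen L t) (j : JF L T V Q M z d x) {X : Subgroup G} [X.Normal] (hX : L ≤ X)
    (hK : K ≤ X) : ∃ θ, Wg T X t z d θ := by
  obtain ⟨θ, h1, h2, h3⟩ := Prd.exists_theta c.tt j.pT k.cm (fun l hl => k.on l (j.TL hl) (j.nV l hl)) k.ker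
  have h : Th K T t θ := ⟨fun a ha => (h1 a ha).1, fun a ha => (h1 a ha).2.1, fun a ha => (h1 a ha).2.2, h2, h3⟩
  have cm : ∀ a ∈ T, ∀ b ∈ T, θ a * (t * θ b * t) = t * θ b * t * θ a := fun a ha b hb => k.cm _ (h.mem a ha) _ (h.mem b hb)
  refine ⟨θ, h.mul, h.diag, cm, fun a ha => hK (h.mem a ha), fun a ha b hb a2 b2 => ?_⟩
  let R : G → G → G → G → Prop := fun a b a' b' => ∃ κ ∈ X, κ * (θ a * (t * θ b * t)) * κ⁻¹ = θ a' * (t * θ b' * t)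
  have tr : ∀ {a b a' b' a'' b''}, R a b a' b' → R a' b' a'' b'' → R a b a'' b'' := fun ⟨α, a1, a2⟩ ⟨β, b1, b2⟩ =>
    ⟨_, mul_mem b1 a1, by rw [← b2, ← a2]; group⟩
  have ti := inv_eq_of_mul_eq_one_right c.tt
  have step : ∀ {A A' B : G → Prop}, (∀ a, A a → B a) → (∀ a, A' a → B a) → (∀ a, B a → a ∈ T) →
      (∀ a, A a → a * a = 1 → ∃ a', A' a' ∧ IsConj a a' ∧ ∀ b, B b → R a b a' b) → ∀ a b, A a → A b → a * a = 1 →
      b * b = 1 → ∃ a' b', A' a' ∧ A' b' ∧ IsConj a a' ∧ IsConj b b' ∧ R a b a' b' := by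
    intro A A' B k1 k2 k3 k4 a b ha hb a2 b2
    obtain ⟨a', a3, a4, a5⟩ := k4 a ha a2
    obtain ⟨b', b3, b4, b5⟩ := k4 b hb b2
    obtain ⟨κ, e1, e2⟩ := b5 a' (k2 _ a3)
    refine ⟨a', b', a3, b3, a4, b4, tr (a5 b (k1 _ hb)) ⟨_, Normal.conj_mem ‹_› κ e1 t, ?_⟩⟩
    rw [cm _ (k3 _ (k2 _ a3)) _ (k3 _ (k1 _ hb)), cm _ (k3 _ (k2 _ a3)) _ (k3 _ (k2 _ b3))]
    simpa only [ti, mul_inv_rev, mul_assoc, ← mul_assoc t t, c.tt, one_mul, mul_one] using congrArg (t * · * t) e2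
  have nm : ∀ m ∈ M, ∀ a ∈ T, m * a * m⁻¹ ∈ T → ∀ b ∈ T, R a b (m * a * m⁻¹) b := fun m hm a ha e b hb => by
    obtain ⟨κ, k1, k2⟩ := h.nrm k c (j.ML hm) (j.nM m hm)
    exact ⟨κ, hK k1, by rw [← conj_mul, (k2 a ha e).1, k.cm κ k1 _ (h.mem b hb), mul_inv_cancel_right]⟩
  have sq : ∀ {a b : G}, IsConj a b → a * a = 1 → b * b = 1 := fun e k => by
    obtain ⟨g, rfl⟩ := isConj_iff.1 e
    rw [conj_mul, k, mul_one, mul_inv_cancel]
  have eT : ∀ e, e = 1 ∨ e = z ∨ e = d → e ∈ T := by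
    rintro _ (rfl | rfl | rfl)
    exacts [one_mem _, j.VT j.zV, j.VT j.dV]
  obtain ⟨a₁, b₁, p1, p2, p3, p4, p5⟩ := step (A' := (· ∈ Q)) (B := (· ∈ T)) (fun _ => id) (fun _ k => j.QT k) (fun _ => id)
    (fun a ha a2 => (j.inQ a ha a2).elim fun m e => ⟨_, e.2, isConj_iff.2 ⟨m, rfl⟩, nm m e.1 a ha (j.QT e.2)⟩) a b ha hb a2 b2
  obtain ⟨a₂, b₂, q1, q2, q3, q4, q5⟩ := step (A' := fun a => a ∈ Q ∧ a ∈ V) (B := (· ∈ Q)) (fun _ => id)
    (fun _ k => k.1) (fun _ k => j.QT k) (fun a ha a2 => by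
      obtain ⟨g, hg, gz, e⟩ := j.cjQ a ha a2
      obtain ⟨κ, k1, k2⟩ := h.exists_lift k c j hK hg gz
      exact ⟨_, ⟨j.nQ g hg gz a ha, e⟩, isConj_iff.2 ⟨g, rfl⟩, fun b hb =>
        ⟨κ, k1, by rw [← conj_mul, (k2 a ha).1, (k2 b hb).2, mul_inv_cancel_right]⟩⟩) a₁ b₁ p1 p2 (sq p3 a2) (sq p4 b2)
  obtain ⟨e, e', r1, r2, r3, r4, r5⟩ := step (A := (· ∈ V)) (A' := fun e => e = 1 ∨ e = z ∨ e = d) (B := (· ∈ T))
    (fun _ k => j.VT k) eT (fun _ => id) (fun a ha _ => by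
      by_cases a1 : a = 1
      · exact ⟨a, .inl a1, IsConj.refl a, fun b _ => ⟨1, one_mem _, by group⟩⟩
      obtain ⟨m, hm, e⟩ := j.orb a ha a1
      exact ⟨_, .inr e, isConj_iff.2 ⟨m, rfl⟩, nm m hm a (j.VT ha) (eT _ (.inr e))⟩) a₂ b₂ q1.2 q2.2
    (sq (p3.trans q3) a2) (sq (p4.trans q4) b2)
  have rp : ∀ {a e}, IsConj a e → e = 1 ∨ e = z ∨ e = d → Rp z d a e := fun {a e} k1 k2 => (em (a = 1)).imp
    (fun k => ⟨k, isConj_one_right.1 (k ▸ k1)⟩) fun k => ⟨k, k2.resolve_left fun k' => k (isConj_one_left.1 (k' ▸ k1))⟩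
  obtain ⟨κ, s1, s2⟩ := tr (tr p5 q5) r5
  exact ⟨κ, s1, e, e', rp ((p3.trans q3).trans r3) r1, rp ((p4.trans q4).trans r4) r2, s2⟩

end Cfsg.Agent.Wj
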